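import Cfsg.Agent.N2.Sp2.MdCo3
import Cfsg.Agent.N2.Sp2.MdSuz
import Cfsg.Agent.N2.Sp4.Odd
import Cfsg.Agent.N2.Sp5.NL
import Cfsg.Agent.N2.SpK.RB
import Cfsg.Agent.N2.SpK.Suz

/-!
# N2 (S3519): the rows of `Co₃` and `Suz` (helper44)
-/

set_option autoImplicit false
set_option maxRecDepth 100000

namespace Cfsg.Agent.N2.Sp2

open Subgroup Cfsg Cfsg.Agent.FP3 Cfsg.Agent.SB Cfsg.Agent.N2.Sp Cfsg.Agent.N2.Sp4 Cfsg.Agent.N2.Sp4T Cfsg.Agent.N2.Sp2.Md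
open Cfsg.Agent.TAB.Eng Cfsg.Agent.TAB.Use Cfsg.Agent.SB.SporL Cfsg.Agent.TH.Spor

variable {K : Type} [Group K] [Finite K] [IsSimpleGroup K] {A : Subgroup K} {Γ : Subgroup (MulAut K)}

/-- the normaliser of the group generated by central elements of `O_p(A)` with an invariant property -/
theorem mem_of_norm (h : MI A Γ) {p : ℕ} {P : K → Prop} (hP : ∀ (σ : MulAut K) x, P x → P (σ x)) {e : K} (h1 : e ≠ 1)
    {E : Set K} (hE : E = {x | P x ∧ x ∈ Mon.core p A ∧ ∀ y ∈ Mon.core p A, x * y = y * x}) (he : e ∈ E) {g : K}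
    (hg : ∀ u ∈ closure E, g * u * g⁻¹ ∈ closure E) : g ∈ A := by
  refine (mi_norm h (E := closure E) (fun σ hσ => (closure_le ((closure E).comap σ.toMonoidHom)).2 fun x hx => ?_)
    (fun k => h1 (mem_bot.1 (k ▸ subset_closure he))) fun k => h.ne_top (top_le_iff.1 (k ▸ (closure_le A).2 fun x hx =>
      map_subtype_le _ (hE ▸ hx).2.1))).le (mem_normalizer_fintype hg)
  subst hE
  refine subset_closure ⟨hP σ x hx.1, inv_core h p σ hσ x hx.2.1, fun y hy => ?_⟩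
  simpa using congrArg σ (hx.2.2 _ (inv_core h p _ (inv_mem hσ) y hy))

theorem two_dead (h : MI A Γ) {F : ℕ} (h2 : Two K F) (ho : ∀ a ∈ A, a ^ 60 = 1)
    (hc : ∀ x y : K, orderOf x = 2 → orderOf y = 2 → 2 ^ F ∣ cn x → 2 ^ F ∣ cn y → IsConj x y) {e : K} (h3 : orderOf e = 2)
    (h4 : 2 ^ F ∣ cn e) (h5 : e ∈ Mon.core 2 A) (h6 : ∀ y ∈ Mon.core 2 A, e * y = y * e) : False := by
  obtain ⟨z, k1, k2, k3⟩ := h2
  obtain ⟨g, k4, k5⟩ := k3 {x | (orderOf x = 2 ∧ 2 ^ F ∣ cn x) ∧ x ∈ Mon.core 2 A ∧ ∀ y ∈ Mon.core 2 A, x * y = y * x}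
    ⟨e, ⟨h3, h4⟩, h5, h6⟩ (fun x hx => hc z x k1 hx.1.1 k2 hx.1.2) fun x hx y hy => hx.2.2 y hy.2.1
  exact k4 (ho g (mem_of_norm h (fun σ x hx => ⟨(σ.orderOf_eq x).trans hx.1, (cn_map σ x).symm ▸ hx.2⟩) (e := e)
    (fun k => by rw [k, orderOf_one] at h3; cases h3) rfl ⟨⟨h3, h4⟩, h5, h6⟩ k5))

omit [Finite K] [IsSimpleGroup K] in
theorem cn_conj {x y : K} (h : IsConj x y) : cn y = cn x ∧ orderOf y = orderOf x := by
  obtain ⟨c, rfl⟩ := isConj_iff.1 h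
  exact ⟨cn_map (MulAut.conj c) x, (MulAut.conj c).orderOf_eq x⟩

theorem three_dead (h : MI A Γ) {F r : ℕ} (h3 : Three K F r) (ho : ∀ a ∈ A, a ^ 60 = 1)
    (hc : ∀ x y : K, orderOf x = 3 → orderOf y = 3 → 3 ^ F ∣ cn x → r ∣ cn x → 3 ^ F ∣ cn y → r ∣ cn y →
      ∃ k : ℕ, IsConj (x ^ k) y) (h0 : pCore 3 A ≠ ⊥)
    (h4 : ∀ c, (∀ y ∈ Mon.core 3 A, c * y = y * c) → c ∈ Mon.core 3 A) : False := by
  obtain ⟨z, k1, k2, k3, k4⟩ := h3
  obtain ⟨⟨e, k5, k6⟩, g, k7, k8⟩ := k4 _ (Mon.core_pgroup 3) h4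
  obtain ⟨k9, k10⟩ := cn_conj k5
  refine k7 (ho g (k8.elim (fun k => ?_) fun k => ?_))
  · exact (mi_norm h (inv_core h 3) (fun e => h0 ((map_eq_bot_iff_of_injective _ A.subtype_injective).1 e))
      fun e => h.ne_top (top_le_iff.1 (e ▸ map_subtype_le _))).le (mem_normalizer_fintype k)
  refine mem_of_norm h (P := fun x => orderOf x = 3 ∧ 3 ^ F ∣ cn x ∧ r ∣ cn x) (fun σ x hx =>
    ⟨(σ.orderOf_eq x).trans hx.1, (cn_map σ x).symm ▸ hx.2⟩) (e := e) (fun k => by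
      rw [k, orderOf_one, k1] at k10
      cases k10) rfl ⟨⟨k10.trans k1, k9 ▸ ⟨k2, k3⟩⟩, h4 e k6, k6⟩ fun u hu => ?_
  rwa [mem_centralizer_singleton_iff.1 ((closure_le (centralizer {g})).2 (fun x hx => ?_) hu) |>.symm, mul_inv_cancel_right]
  obtain ⟨j, hj⟩ := hc z x k1 hx.1.1 k2 k3 hx.1.2.1 hx.1.2.2
  rcases F24.Geo.zp (k1 ▸ pow_orderOf_eq_one z) (npow_mem_zpowers z j) with l | l | l <;> rw [l] at hj
  · exact isConj_one_right.1 hj ▸ one_mem _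
  · exact mem_centralizer_singleton_iff.2 (k x hj hx.2.2).symm
  · refine inv_mem_iff.1 (mem_centralizer_singleton_iff.2 (k _ ?_ fun y hy => (Commute.inv_left (hx.2.2 y hy)).eq).symm)
    obtain ⟨c, hc⟩ := isConj_iff.1 hj
    exact isConj_iff.2 ⟨c, by rw [← hc, conj_inv, inv_inv]⟩

variable {D : Dat} {T : TD K D} {R : Rows} {ν : List ℕ}

/-- **the local case** -/
theorem loc_of (H : Hy T R ν) (hu : Unif T) (h : MI A Γ) {O : Sp.Out} {U : ℕ} (hr : Res T A O U) {S : List ℕ}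
    (hS : Sup T A S) {F F3 F5 r t2 t3 m b : ℕ} (h2 : Two K (F + 1)) (h3 : Three K F3 r)
    (ho : ∀ s ∈ S, D.ord s ∣ 12 ∨ D.ord s = 5) (n2 : 2 ^ (F + 1) ∣ D.N) (n2' : ¬ 2 ^ (F + 1 + 1) ∣ D.N)
    (c2 : ∀ t < D.n, D.ord t = 2 → ¬ 2 ∣ D.cnt t → t = t2) (c6 : ∀ s ∈ S, D.ord s = 6 → D.pwf s 3 = t2)
    (c3 : ∀ x : K, orderOf x = 3 → 3 ^ F3 ∣ cn x → r ∣ cn x → T.ty x = t3) (n5 : D.N = 5 ^ (F5 + 1) * m) (n5' : ¬ 5 ∣ m)
    (c5 : Sup T A (Sp4.al O (5 ^ (F5 + 1) * 5 ^ (F5 + 1))) → ∀ Y ≤ A, IsPGroup 5 Y → Nat.card Y ≤ b)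
    (c5' : ∀ s ∈ Sp4.al O (b * b), D.ord s ≠ 5) {p : ℕ} (hp : p.Prime) : pCore p A = ⊥ := by
  have k0 : ∀ a ∈ A, orderOf a ∣ 12 ∨ orderOf a = 5 := fun a ha =>
    ord_of H hS (P := fun n => n ∣ 12 ∨ n = 5) (by decide) ho ha
  have k1 : ∀ a ∈ A, a ^ 60 = 1 := fun a ha => orderOf_dvd_iff_pow_eq_one.1
    ((k0 a ha).elim (fun k => k.trans (by decide)) fun k => k ▸ by decide)
  have k2 : ∀ a ∈ A, ∀ q r : ℕ, q.Prime → 5 ≤ r → r.Prime → orderOf a ≠ q * r := fun a ha q r hq h5 hr e => by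
    have := hq.two_le
    rcases k0 a ha with k | k <;> rw [e] at k
    · have := (Nat.prime_dvd_prime_iff_eq hr Nat.prime_three).1 ((hr.dvd_mul (m := 2 ^ 2)).1
        ((dvd_mul_left r q).trans k) |>.resolve_left fun l => absurd (Nat.le_of_dvd two_pos (hr.dvd_of_dvd_pow l)) (by omega))
      omega
    · nlinarith
  have k3 : ∀ x : K, orderOf x = 2 → 2 ^ (F + 1) ∣ cn x → T.ty x = t2 := fun x a b =>
    c2 _ (T.lt x) (T.ord x ▸ a) (not_dvd_cnt H.mass hu Nat.prime_two a b n2')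
  have k4 : ∀ x y : K, orderOf x = 2 → orderOf y = 2 → T.ty x = T.ty y → IsConj x y := fun x y a b c => by
    obtain ⟨j, hj⟩ := hu x y (a ▸ Nat.prime_two) c
    rw [← pow_mod_orderOf, a] at hj
    rcases Nat.mod_two_eq_zero_or_one j with l | l <;> rw [l] at hj
    · rw [(isConj_one_right.1 (pow_zero x ▸ hj) : y = 1), orderOf_one] at b
      cases b
    · rwa [pow_one] at hj
  have k5 : pCore 2 A = ⊥ := by
    by_contra h0
    have l0 := fun {e} => two_dead h h2 k1 (fun x y a b c d => k4 x y a b ((k3 x a c).trans (k3 y b d).symm)) (e := e)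
    obtain ⟨z, oz, l1, l2⟩ := exists_central Nat.prime_two (Mon.core_pgroup (S := A) 2) (H.mass.1 ▸ n2)
    have l3 := cent_core_le h h0
    have := Fact.mk Nat.prime_two
    have : Nontrivial (Mon.core 2 A) := (nontrivial_iff_ne_bot _).2
      fun e => h0 ((map_eq_bot_iff_of_injective _ A.subtype_injective).1 e)
    obtain ⟨e, l4, oe⟩ := exists_ord Nat.prime_two ((Mon.core_pgroup (S := A) 2).to_subgroup (center _))
      ((nontrivial_iff_ne_bot _).1 (Mon.core_pgroup (S := A) 2).center_nontrivial)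
    rw [← orderOf_coe] at oe
    have l5 : ∀ y ∈ Mon.core 2 A, e * y = y * e := fun y hy => congrArg Subtype.val (mem_center_iff.1 l4 ⟨y, hy⟩).symm
    by_cases l6 : 3 ∣ Nat.card (centralizer (Mon.core 2 A : Set K))
    · obtain ⟨x, l7, ox⟩ := exists_of_dvd Nat.prime_three l6
      obtain ⟨a1, a2, a3, -⟩ := six H hS (map_subtype_le _ e.2) (l3 l7) oe ox (mem_centralizer_iff.1 l7 e e.2)
      exact l0 oe ((cn_conj (k4 z e oz oe ((k3 z oz l1).trans (a3.symm.trans (c6 _ a1 a2)).symm))).1 ▸ l1) e.2 l5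
    · refine l0 oz l1 (H230.le_pCoreOf l3 (cent_norm (Mon.core_conj 2)) (pgrp_of fun c hc q hq hd => ?_)
        (mem_centralizer_iff.2 fun y hy => (l2 y hy).symm)) l2
      have l7 := hd.trans (orderOf_dvd_natCard _ hc)
      rcases Mon.prime_cases hq with l8 | rfl | l8
      · exact l8
      · exact absurd l7 l6
      · exact (primes_cent l3 Nat.prime_two (map_subtype_le _ e.2) oe (fun c hc => (mem_centralizer_iff.1 hc e e.2).symm) hq
          l7).resolve_right fun ⟨a, ha, k⟩ => k2 a ha 2 q Nat.prime_two l8 hq k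
  by_contra h0
  obtain ⟨a, ha, oa⟩ := exists_of_core hp h0
  rcases Mon.prime_cases hp with rfl | rfl | h5
  · exact h0 k5
  · exact three_dead h h3 k1 (fun x y a b c d e f => hu x y (a ▸ hp) ((c3 x a c d).trans (c3 y b e f).symm)) h0
      fun c hc => cent_three h h0 k5 (fun a ha r hr h5 => k2 a ha 3 r hp h5 hr) hc
  obtain rfl : p = 5 := by
    refine oa ▸ (k0 a ha).resolve_left fun k => ?_
    have := Nat.le_of_dvd (by decide) k
    rw [oa] at k this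
    interval_cases p <;> first | omega | exact absurd hp (by decide)
  have l0 : ∀ a ∈ A, ∀ r : ℕ, r.Prime → orderOf a ≠ 5 * r := fun a ha r hr => mul_comm r 5 ▸ k2 a ha r 5 hr le_rfl hp
  obtain ⟨-, -, -, -, l1⟩ := five H.mass hu h hp h0 l0 n5 n5'
  have l2 := c5 (sup_al hr l1)
  obtain ⟨u, l3, ou⟩ := exists_ord hp (Mon.core_pgroup (S := A) 5)
    fun e => h0 ((map_eq_bot_iff_of_injective _ A.subtype_injective).1 e)
  obtain ⟨l4, l5⟩ := mem_of' H (sup_al hr ((Mon.card_le_of_conj fun s hs => Mon.core_conj 5 s hs u l3).trans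
    (Nat.mul_le_mul (l2 _ (map_subtype_le _) (Mon.core_pgroup 5)) (l2 _ inf_le_left (pg_cent hp inf_le_left
      (map_subtype_le _ l3) ou (fun x hx => mem_centralizer_singleton_iff.1 hx.2) l0))))) ha oa (by decide)
  exact c5' _ l4 l5

open Cfsg.Agent.N2.Sp.Co3 in
/-- **`Co₃`: a bad subgroup is not local** -/
theorem loc_Co3 (hK : Spor.IsoCo3 K) {T : TD K Sp.Co3.D} (H : Hy T Sp.Co3.R nu) (hu : Unif T) (h : MI A Γ) (hb : ¬ Good A)
    {p : ℕ} (hp : p.Prime) : pCore p A = ⊥ := by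
  refine loc_of H hu h (res H hb h.ne_top) (sup H hb h.ne_top).2 (F5 := 2) (t2 := 1) (t3 := 3) (m := Sp.Co3.D.N / 5 ^ 3) (b := 12)
    (Md.Co3.two hK).1 (Md.Co3.two hK).2 (by decide +kernel) (by decide +kernel) (by decide +kernel) (by decide +kernel)
    (by decide +kernel) (fun x a b _ => ?_) (by decide +kernel) (by decide +kernel) (fun hS Y k1 k2 => ?_) (by decide +kernel) hp
  · exact (by decide +kernel : ∀ t < Sp.Co3.D.n, Sp.Co3.D.ord t = 3 → ¬ 3 ∣ Sp.Co3.D.cnt t → t = 3) _ (T.lt x) (T.ord x ▸ a)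
      (not_dvd_cnt H.mass hu Nat.prime_three a b (by decide +kernel))
  · have := Fact.mk Nat.prime_five
    have l1 : 0 ≤ vf T Y (nth (ntd (rowsP Sp.Co3.R) [] 1)) := H.pos (pos_nil Y) _ (ntd_mem' _ _ (by decide +kernel))
    have l2 := vf_le (T := T) (Y := Y) bot_le (ψ := nth (ntd (rowsP Sp.Co3.R) [] 1)) (a := -2) fun y hy l3 => by
      obtain ⟨k, hk⟩ := IsPGroup.iff_orderOf.1 k2 ⟨y, hy⟩
      rw [orderOf_mk, T.ord] at hk
      refine (by decide +kernel : ∀ s ∈ Sp4.al O (5 ^ (2 + 1) * 5 ^ (2 + 1)), Nat.Coprime 6 (Sp.Co3.D.ord s) →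
        nth (ntd (rowsP Sp.Co3.R) [] 1) s ≤ -2) _ (Sp4.mem_of H hS (k1 hy) l3) ?_
      rw [hk]
      exact Nat.Coprime.pow_right _ (by decide)
    rw [vf_bot H, card_bot, show nth (ntd (rowsP Sp.Co3.R) [] 1) 0 = 23 by decide +kernel] at l2
    omega

open Cfsg.Agent.N2.Sp.Suz in
/-- **`Suz`: a bad subgroup is not local** -/
theorem loc_Suz (hK : Spor.IsoSuz K) {T : TD K Sp.Suz.D} (H : Hy T Sp.Suz.R nu) (hu : Unif T) (h : MI A Γ) (hb : ¬ Good A)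
    {p : ℕ} (hp : p.Prime) : pCore p A = ⊥ := by
  refine loc_of H hu h (res H hb h.ne_top) (sup H hb h.ne_top).2 (F5 := 1) (t2 := 1) (t3 := 36) (m := Sp.Suz.D.N / 5 ^ 2) (b := 5)
    (Md.Suz.two hK).1 (Md.Suz.two hK).2 (by decide +kernel) (by decide +kernel) (by decide +kernel) (by decide +kernel)
    (by decide +kernel) (fun x a _ b => ?_) (by decide +kernel) (by decide +kernel) (fun hS Y k1 k2 => ?_) (by decide +kernel) hp
  · obtain ⟨y, l1, l2⟩ := exists_of_dvd (by norm_num) b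
    have l3 : Commute y x := mem_centralizer_singleton_iff.1 l1
    have l4 := (by decide +kernel : ∀ t < Sp.Suz.D.n, Sp.Suz.D.ord t = 7 * 3 → Sp.Suz.D.pwf t 7 = 36) _ (T.lt (y * x))
      (T.ord _ ▸ ord_mul l3 l2 a (by decide))
    rwa [← T.pow, l3.mul_pow, ← l2, pow_orderOf_eq_one, one_mul, l2, ← pow_mod_orderOf, a, pow_one] at l4
  · refine Nat.le_of_dvd (by decide) (pg_le (a := 1) (m := 73) Nat.prime_five k2
      (card_dvd' H (by decide +kernel) 1 [(1, 2)] (fun y hy l3 => ?_) (by decide +kernel)) (by decide))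
    have := Fact.mk Nat.prime_five
    obtain ⟨k, hk⟩ := IsPGroup.iff_orderOf.1 k2 ⟨y, hy⟩
    rw [orderOf_mk, T.ord] at hk
    refine (by decide +kernel : ∀ s ∈ Sp4.al O (5 ^ (1 + 1) * 5 ^ (1 + 1)), Nat.Coprime 6 (Sp.Suz.D.ord s) →
      cv Sp.Suz.R 1 [(1, 2)] s = 0) _ (Sp4.mem_of H hS (k1 hy) l3) ?_
    rw [hk]
    exact Nat.Coprime.pow_right _ (by decide)

/-- **the row of `Co₃`** -/
theorem row_Co3 (cf : Cf) (h : Spor.IsoCo3 K) : ASRow K := fun _ _ hm => by_contra fun hb => by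
  obtain ⟨T, H, hU, -⟩ := hy_of (ν := Sp.Co3.nu) (SpK.inK_co3 h) Sp.Co3.okz (by decide +kernel)
  exact Sp5.nl_Co3 cf H hm hb fun _ hp => loc_Co3 h H hU hm hb hp

/-- **the row of `Suz`** -/
theorem row_Suz (cf : Cf) (h : Spor.IsoSuz K) : ASRow K := fun _ _ hm => by_contra fun hb => by
  obtain ⟨T, H, hU, -⟩ := hy_of (ν := Sp.Suz.nu) (SpK.inK_suz h) Sp.Suz.okz (by decide +kernel)
  exact Sp5.nl_Suz cf H hm hb fun _ hp => loc_Suz h H hU hm hb hp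

end Cfsg.Agent.N2.Sp2
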