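import Cfsg.Agent.N2.Sp2.MdCo2
import Cfsg.Agent.N2.Sp2.Loc
import Cfsg.Agent.N2.Sp.GCo2

/-!
# N2 (S3519): the odd local subgroups of `Co₂` (helper44)
-/

set_option autoImplicit false
set_option maxRecDepth 100000

namespace Cfsg.Agent.N2.Sp2

open Subgroup Cfsg Cfsg.Agent.FP3 Cfsg.Agent.SB Cfsg.Agent.N2.Sp Cfsg.Agent.N2.Sp4 Cfsg.Agent.N2.Sp4T Cfsg.Agent.N2.Sp2.Md
open Cfsg.Agent.TAB.Eng Cfsg.Agent.TAB.Use Cfsg.Agent.SB.SporL Cfsg.Agent.TH.Spor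

variable {K : Type} [Group K] [Finite K] [IsSimpleGroup K] {A : Subgroup K} {Γ : Subgroup (MulAut K)}

open Cfsg.Agent.N2.Sp.Co2 in
/-- **`Co₂`: the odd primes** -/
theorem odd_Co2 (hK : Spor.IsoCo2 K) {T : TD K Sp.Co2.D} (H : Hy T Sp.Co2.R nu) (hu : Unif T) (h : MI A Γ) (hb : ¬ Good A)
    (k5 : pCore 2 A = ⊥) {p : ℕ} (hp : p.Prime) : pCore p A = ⊥ := by
  have hr := res H hb h.ne_top
  have k0 : ∀ a ∈ A, orderOf a ∣ 12 ∨ orderOf a = 5 := fun a ha =>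
    ord_of H (sup H hb h.ne_top).2 (P := fun n => n ∣ 12 ∨ n = 5) (by decide) (by decide +kernel) ha
  have k1 : ∀ a ∈ A, a ^ 60 = 1 := fun a ha => orderOf_dvd_iff_pow_eq_one.1
    ((k0 a ha).elim (fun k => k.trans (by decide)) fun k => k ▸ by decide)
  have k2 : ∀ a ∈ A, ∀ q r : ℕ, q.Prime → 5 ≤ r → r.Prime → orderOf a ≠ q * r := fun a ha q r hq h5 hr e => by
    have := hq.two_le
    rcases k0 a ha with k | k <;> rw [e] at k
    · have := (Nat.prime_dvd_prime_iff_eq hr Nat.prime_three).1 ((hr.dvd_mul (m := 2 ^ 2)).1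
        ((dvd_mul_left r q).trans k) |>.resolve_left fun l => absurd (Nat.le_of_dvd two_pos (hr.dvd_of_dvd_pow l)) (by omega))
      omega
    · nlinarith
  have c3 : ∀ x : K, orderOf x = 3 → 3 ^ 6 ∣ cn x → T.ty x = 4 := fun x a b =>
    (by decide +kernel : ∀ t < Sp.Co2.D.n, Sp.Co2.D.ord t = 3 → ¬ 3 ∣ Sp.Co2.D.cnt t → t = 4) _ (T.lt x) (T.ord x ▸ a)
      (not_dvd_cnt H.mass hu Nat.prime_three a b (by decide +kernel))
  by_contra h0
  obtain ⟨a, ha, oa⟩ := exists_of_core hp h0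
  rcases Mon.prime_cases hp with rfl | rfl | h5
  · exact h0 k5
  · exact three_dead h (Md.Co2.three hK) k1 (fun x y a b c _ e _ => hu x y (a ▸ hp) ((c3 x a c).trans (c3 y b e).symm)) h0
      fun c hc => cent_three h h0 k5 (fun a ha r hr h5 => k2 a ha 3 r hp h5 hr) hc
  obtain rfl : p = 5 := by
    refine oa ▸ (k0 a ha).resolve_left fun k => ?_
    have := Nat.le_of_dvd (by decide) k
    rw [oa] at k this
    interval_cases p <;> first | omega | exact absurd hp (by decide)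
  have l0 : ∀ a ∈ A, ∀ r : ℕ, r.Prime → orderOf a ≠ 5 * r := fun a ha r hr => mul_comm r 5 ▸ k2 a ha r 5 hr le_rfl hp
  obtain ⟨-, -, -, -, l1⟩ := five (F := 2) (m := Sp.Co2.D.N / 5 ^ 3) H.mass hu h hp h0 l0 (by decide +kernel) (by decide +kernel)
  have l2 : ∀ Y ≤ A, IsPGroup 5 Y → Nat.card Y ≤ 12 := fun Y k1 k2 => by
    have := Fact.mk Nat.prime_five
    have l1' : 0 ≤ vf T Y (nth (ntd (rowsP Sp.Co2.R) [] 1)) := H.pos (pos_nil Y) _ (ntd_mem' _ _ (by decide +kernel))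
    have l2 := vf_le (T := T) (Y := Y) bot_le (ψ := nth (ntd (rowsP Sp.Co2.R) [] 1)) (a := -2) fun y hy l3 => by
      obtain ⟨k, hk⟩ := IsPGroup.iff_orderOf.1 k2 ⟨y, hy⟩
      rw [orderOf_mk, T.ord] at hk
      refine (by decide +kernel : ∀ s ∈ Sp4.al O (5 ^ (2 + 1) * 5 ^ (2 + 1)), Nat.Coprime 6 (Sp.Co2.D.ord s) →
        nth (ntd (rowsP Sp.Co2.R) [] 1) s ≤ -2) _ (Sp4.mem_of H (sup_al hr l1) (k1 hy) l3) ?_
      rw [hk]
      exact Nat.Coprime.pow_right _ (by decide)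
    rw [vf_bot H, card_bot, show nth (ntd (rowsP Sp.Co2.R) [] 1) 0 = 23 by decide +kernel] at l2
    omega
  obtain ⟨u, l3, ou⟩ := exists_ord hp (Mon.core_pgroup (S := A) 5)
    fun e => h0 ((map_eq_bot_iff_of_injective _ A.subtype_injective).1 e)
  obtain ⟨l4, l5⟩ := mem_of' H (sup_al hr ((Mon.card_le_of_conj fun s hs => Mon.core_conj 5 s hs u l3).trans
    (Nat.mul_le_mul (l2 _ (map_subtype_le _) (Mon.core_pgroup 5)) (l2 _ inf_le_left (pg_cent hp inf_le_left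
      (map_subtype_le _ l3) ou (fun x hx => mem_centralizer_singleton_iff.1 hx.2) l0))))) ha oa (by decide)
  exact (by decide +kernel : ∀ s ∈ Sp4.al O (12 * 12), Sp.Co2.D.ord s ≠ 5) _ l4 l5

end Cfsg.Agent.N2.Sp2
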