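import Cfsg.Agent.N2.Sp2.Rules
import Cfsg.Agent.TH.Spor.Enum

/-!
# N2 (S3519), sporadic groups: orders of bad subgroups with elements of prime power order, the check (helper44)
-/

set_option autoImplicit false
set_option linter.unusedSectionVars false

namespace Cfsg.Agent.N2.Sp2

open Cfsg Cfsg.Agent.FP3 Cfsg.Agent.TAB.Eng Cfsg.Agent.TAB.Use Cfsg.Agent.SB.SporL Cfsg.Agent.TH.Spor Cfsg.Agent.N2.Sp
open Cfsg.Agent.SM.Sp (val cond_ff)
open Cfsg.Agent.OrdDiv (prodl)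
open Subgroup

variable {K : Type} [Group K] [Finite K] [IsSimpleGroup K] {D : Dat} {T : TD K D} {R : Rows} {ν S : List ℕ}
  {A : Subgroup K} {Γ : Subgroup (MulAut K)} {x : Pd} {L : List Pd}

/-! ### vectors -/

/-- a vector from a function -/
def vec (n : ℕ) (f : ℕ → ℤ) : List ℤ := (List.range n).map f

theorem val_vec (f : ℕ → ℤ) : val T A (vec D.n f) = vf T A f :=
  Finset.sum_congr rfl fun t ht => by
    rw [nth_eq, vec, List.getD_eq_getElem?_getD, List.getElem?_map, List.getElem?_range (Finset.mem_range.1 ht)]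
    rfl

theorem vf_mul (c : ℤ) (F : ℕ → ℤ) : vf T A (fun t => c * F t) = c * vf T A F := by
  simp only [vf, Finset.mul_sum]
  exact Finset.sum_congr rfl fun t _ => by ring

theorem vf_ind (p : ℕ) (c : ℤ) : vf T A (fun t => cond (D.ord t % p == 0) c 0) = np A p * c := by
  classical
  have := Fintype.ofFinite A
  have h := sum_num (T := T) A fun t => cond (D.ord t % p == 0) c 0
  simp only [nsmul_eq_mul] at h
  rw [vf, ← h, np, Nat.card_eq_fintype_card, Fintype.card_subtype, Finset.card_filter, Nat.cast_sum, Finset.sum_mul]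
  refine Finset.sum_congr rfl fun a _ => ?_
  rw [← T.ord, orderOf_coe]
  by_cases h1 : p ∣ orderOf a
  · simp [h1, Nat.mod_eq_zero_of_dvd h1]
  · rw [if_neg h1, beq_eq_false_iff_ne.2 fun e => h1 (Nat.dvd_of_mod_eq_zero e)]
    simp

theorem vf_zero (H : Hy T R ν) (c : ℤ) : vf T A (fun t => cond (Nat.beq t 0) c 0) = c := by
  rw [vf_one (Nat.lt_of_le_of_lt (Nat.zero_le _) (T.lt 1)), H.num0, Nat.cast_one, one_mul]

/-- the number of `p`-elements -/
def eqv (D : Dat) (x : Pd) (s : ℤ) : List ℤ :=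
  vec D.n fun t => cond (D.ord t % x.p == 0) s 0 + cond (Nat.beq t 0) (-s * (x.k * x.m : ℕ)) 0

/-- the equations -/
def eqs (D : Dat) (L : List Pd) : List (List ℤ) := L.flatMap fun x => [eqv D x 1, eqv D x (-1)]

/-- `s * num t + c` -/
def brv (D : Dat) (t : ℕ) (s c : ℤ) : List ℤ := vec D.n fun u => cond (Nat.beq u t) s 0 + cond (Nat.beq u 0) c 0

theorem val_brv (H : Hy T R ν) {t : ℕ} (ht : t < D.n) (s c : ℤ) : val T A (brv D t s c) = num T A t * s + c := by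
  rw [brv, val_vec, vf_add, vf_one ht, vf_zero H]

theorem Cx.eqs (C : Cx T R ν A Γ S) (hL : ∀ y ∈ L, Ok D (Nat.card A) y) : Pos T A (eqs D L) := by
  intro w hw
  obtain ⟨y, hy, hw⟩ := List.mem_flatMap.1 hw
  have h : ∀ s, val T A (eqv D y s) = 0 := fun s => by
    rw [eqv, val_vec, vf_add, vf_ind, vf_zero C.hy, (hL y hy).np C.ep]
    ring
  simp only [List.mem_cons, List.not_mem_nil, or_false] at hw
  rcases hw with rfl | rfl <;> exact (h _).ge

theorem pos_cons {W : List (List ℤ)} (h : Pos T A W) {w : List ℤ} (hw : 0 ≤ val T A w) : Pos T A (w :: W) :=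
  List.forall_mem_cons.2 ⟨hw, h⟩

/-! ### the multiplicities of the principal character -/

theorem mult_le {χ : K → ℂ} (h : IsIrrCharacter K χ) {B : Subgroup K} (hB : B ≤ A) [Fintype A] [Fintype B] {a b : ℕ}
    (ha : ∑ s : A, χ s = (Nat.card A * a : ℕ)) (hb : ∑ s : B, χ s = (Nat.card B * b : ℕ)) : a ≤ b := by
  obtain ⟨n, ρ, -, rfl⟩ := h
  have key : ∀ (C : Subgroup K) [Fintype C] {c : ℕ}, ∑ s : C, ρ.character s = (Nat.card C * c : ℕ) →
      c = Module.finrank ℂ (Representation.invariants (ρ.comp C.subtype)) := fun C _ c hc => by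
    have h0 : (Nat.card C : ℂ) ≠ 0 := Nat.cast_ne_zero.2 Nat.card_pos.ne'
    have := invertibleOfNonzero h0
    have h2 := Representation.card_inv_mul_sum_char_eq_finrank (ρ.comp C.subtype)
    rw [inv_mul_eq_iff_eq_mul₀ h0] at h2
    have h3 := hc.symm.trans h2
    rw [Nat.cast_mul] at h3
    exact_mod_cast mul_left_cancel₀ h0 h3
  rw [key A ha, key B hb]
  exact Submodule.finrank_mono fun v hv b => hv ⟨b, hB b.2⟩

theorem val_le (h : Tab T R) (hi : okIdx R = true) {B : Subgroup K} (hB : B ≤ A) (r : ℕ)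
    (hr : ∀ p ∈ (ntd R.rel ([], []) r).1, 0 ≤ p.2) :
    Nat.card B * val T A (ntd R.rel ([], []) r).2 ≤ Nat.card A * val T B (ntd R.rel ([], []) r).2 := by
  have := Fintype.ofFinite A
  have := Fintype.ofFinite B
  obtain ⟨χ, hE, hR⟩ := h
  obtain ⟨a, ha, -⟩ := SM.Sp.exists_mults hE A
  obtain ⟨b, hb, -⟩ := SM.Sp.exists_mults hE B
  obtain ⟨h1, h2⟩ := SM.Sp.val_mult hR hi ha r
  rw [h2, (SM.Sp.val_mult hR hi hb r).2, mul_left_comm]
  refine mul_le_mul_of_nonneg_left (mul_le_mul_of_nonneg_left (List.sum_le_sum fun p hp => ?_) (Int.natCast_nonneg _))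
    (Int.natCast_nonneg _)
  exact mul_le_mul_of_nonneg_left (Int.ofNat_le.2 (mult_le (hE.irr _ (h1 p hp)) hB (ha _ (h1 p hp)) (hb _ (h1 p hp))))
    (hr p hp)

/-- the inequality which comes from the normaliser of an abelian Sylow subgroup -/
noncomputable def mov (D : Dat) (n : ℕ) (x : Pd) (w : List ℤ) (b : ℕ) (M M' : ℤ) : List ℤ :=
  vec D.n fun t => -(b : ℤ) * nth w t + cond (Nat.beq t 0) (n * (nth w 0 + (x.q - 1) * M + (b - x.q) * M')) 0

theorem Cx.mov (C : Cx T R ν A Γ S) (h : Ok D (Nat.card A) x) (h0 : x.q ≠ 1)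
    (h1 : Sp2.ab D ν S (Nat.card A) x = true)
    (hi : okIdx R = true) (r : ℕ) (hr : ∀ p ∈ (ntd R.rel ([], []) r).1, 0 ≤ p.2) {M M' : ℤ}
    (hM : ∀ t ∈ S, x.q * ((x.q - 1) / x.k) % D.ord t = 0 →
      nth (ntd R.rel ([], []) r).2 t ≤ cond (D.ord t % x.p == 0) M M') :
    0 ≤ val T A (Sp2.mov D (Nat.card A) x (ntd R.rel ([], []) r).2 (x.q * ((x.q - 1) / x.k)) M M') := by
  have := Fact.mk h.hp
  obtain ⟨P⟩ : Nonempty (Sylow x.p A) := inferInstance
  obtain ⟨h2, h3, h4⟩ := h.ti C.ep h0 P (C.ab h P h1)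
  set B := (normalizer (P : Set A)).map A.subtype
  have hB : B ≤ A := map_subtype_le _
  have h5 : Nat.card B = x.q * ((x.q - 1) / x.k) := (card_map_of_injective A.subtype_injective).trans h4
  have h6 := val_le C.hy.tab hi hB r hr
  set w := (ntd R.rel ([], []) r).2
  have hE : Ep B := fun a p q hp hq k1 k2 => C.ep ⟨a, hB a.2⟩ p q hp hq (by rwa [← orderOf_coe] at k1 ⊢)
    (by rwa [← orderOf_coe] at k2 ⊢)
  have h7 : 0 < x.q := h.syl P ▸ Nat.card_pos
  have h8 : np B x.p = x.q - 1 := by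
    obtain ⟨a, -, e⟩ := h.hq
    rw [hE.np_eq h.hp (h5.trans (congrArg (· * _) e)) (fun k => h.hm (k.trans h3)) (e ▸ h.hk) (by
      rw [Nat.mul_div_cancel' h2, Nat.sub_add_cancel h7, e]), Nat.mul_div_cancel' h2]
  have h9 : val T B w ≤ vf T B fun t => (cond (D.ord t % x.p == 0) (M - M') 0 + cond (Nat.beq t 0) (nth w 0 - M') 0) + M' := by
    refine Finset.sum_le_sum fun t _ => ?_
    by_cases h10 : num T B t = 0
    · rw [h10, Nat.cast_zero, zero_mul, zero_mul]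
    obtain ⟨b, hb, rfl⟩ := num_ne h10
    refine mul_le_mul_of_nonneg_left ?_ (Int.natCast_nonneg _)
    beta_reduce
    by_cases h11 : b = 1
    · rw [← T.ord, (C.hy.zero b).2 h11, h11, orderOf_one, Nat.mod_eq_of_lt h.hp.one_lt]
      simp
    · have h12 := hM _ (C.mem (hB hb) h11) (by
        rw [← h5, ← T.ord]
        exact Nat.mod_eq_zero_of_dvd (B.orderOf_dvd_natCard hb))
      rw [Bool.eq_false_iff.2 fun e => h11 ((C.hy.zero b).1 (Nat.eq_of_beq_eq_true e))]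
      generalize (D.ord (T.ty b) % x.p == 0) = z at h12 ⊢
      cases z <;> simpa using h12
  rw [vf_add, vf_add, vf_ind, vf_zero C.hy, vf_const, h8, h5, Nat.cast_sub h7] at h9
  rw [Sp2.mov, val_vec, vf_add, vf_mul, vf_zero C.hy]
  rw [h5] at h6
  have h10 := mul_le_mul_of_nonneg_left h9 (Int.natCast_nonneg (Nat.card A))
  have h11 : vf T A (nth w) = val T A w := rfl
  rw [h11]
  push_cast at h6 h10 ⊢
  linarith

/-! ### the rules -/

/-- one of the rules applies -/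
noncomputable def kill (D : Dat) (ν S : List ℕ) (n : ℕ) (L : List Pd) : Bool :=
  Nat.ble n (L.map fun x => x.k * x.m).sum ||
  (L.any fun x => x.q != 1 && (r6 x || r10 n x || r12 x || r3 D ν S n x || r7 D ν S n L x || r11 D ν S n x || r4 D ν S n x)) ||
  L.any fun x => L.any fun y => x.q * y.q % n == 0 && loc D ν S n L x && loc D ν S n L y

theorem Cx.kill (C : Cx T R ν A Γ S) (hL : ∀ y ∈ L, Ok D (Nat.card A) y) (hn : (L.map Pd.p).Nodup) :
    kill D ν S (Nat.card A) L ≠ true := by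
  intro h
  simp only [Sp2.kill, Bool.or_eq_true, Bool.and_eq_true, List.any_eq_true, beq_iff_eq, bne_iff_ne, Nat.ble_eq] at h
  rcases h with (h | ⟨y, h1, h2, h⟩) | ⟨y, h1, z, h2, ⟨h3, h4⟩, h5⟩
  · have h1 := C.ep.sum_lt _ (fun p hp => by
      obtain ⟨y, hy, rfl⟩ := List.mem_map.1 hp
      exact (hL y hy).hp) hn
    rw [List.map_map, List.map_congr_left (f := np A ∘ Pd.p) (g := fun x => x.k * x.m) fun y hy => (hL y hy).np C.ep] at h1
    omega
  · have h3 := hL y h1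
    rcases h with (((((h | h) | h) | h) | h) | h) | h
    exacts [C.r6 h3 h2 h, C.r10 h3 h, C.r12 h3 h, C.r3 h3 h2 h, C.r7 hL h3 h2 h, C.r11 h3 h2 h, C.r4 h3 h]
  · have := (nontrivial_iff_ne_bot A).2 C.mi.ne_bot
    obtain ⟨a, -, e⟩ := (hL y h1).hq
    obtain ⟨b, -, e'⟩ := (hL z h2).hq
    have h6 := Nat.dvd_of_mod_eq_zero h3
    rw [e, e'] at h6
    obtain ⟨r, h7, h8, h9⟩ := exists_core (hL y h1).hp (hL z h2).hp h6
    rcases h7.dvd_mul.1 (h8.trans h6) with h10 | h10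
    · exact C.loc hL (hL y h1) ((Nat.prime_dvd_prime_iff_eq h7 (hL y h1).hp).1 (h7.dvd_of_dvd_pow h10) ▸ h9) h4
    · exact C.loc hL (hL z h2) ((Nat.prime_dvd_prime_iff_eq h7 (hL z h2).hp).1 (h7.dvd_of_dvd_pow h10) ▸ h9) h5

/-! ### the trees -/

/-- certificates -/
inductive Tr : Type
  | lf (c : List (ℕ × ℕ)) : Tr
  | kl : Tr
  | pw (t k : ℕ) (s : Tr) : Tr
  | br (t p j : ℕ) (l r : Tr) : Tr
  | mo (p r : ℕ) (M M' : ℤ) (s : Tr) : Tr

/-- branching on the number of the elements of type `t` -/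
noncomputable def evB (D : Dat) (ν : List ℕ) (n : ℕ) (L : List Pd) (t p j : ℕ) (il ir : List ℕ → List (List ℤ) → Bool)
    (S : List ℕ) (W : List (List ℤ)) : Bool :=
  L.any fun x => x.p == p && D.ord t % x.p == 0 && Nat.blt t D.n &&
    (frcLZ (brv D t (-1) (j * x.m : ℕ)) fun v => flt (fun u => !Nat.beq u t || al D ν n x.q j t) S fun S' =>
      il S' (v :: W)) && frcLZ (brv D t 1 (-((j + 1) * x.m : ℕ))) fun v => ir S (v :: W)

/-- the normaliser of an abelian Sylow subgroup -/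
noncomputable def evM (D : Dat) (R : Rows) (ν : List ℕ) (n : ℕ) (L : List Pd) (p r : ℕ) (M M' : ℤ)
    (ih : List ℕ → List (List ℤ) → Bool) (S : List ℕ) (W : List (List ℤ)) : Bool :=
  L.any fun x => x.p == p && x.q != 1 && ab D ν S n x && okIdx R &&
    (ntd R.rel ([], []) r).1.all (fun y => decide (0 ≤ y.2)) &&
    S.all (fun t => x.q * ((x.q - 1) / x.k) % D.ord t != 0 ||
      decide (nth (ntd R.rel ([], []) r).2 t ≤ cond (D.ord t % x.p == 0) M M')) &&
    frcLZ (mov D n x (ntd R.rel ([], []) r).2 (x.q * ((x.q - 1) / x.k)) M M') fun v => ih S (v :: W)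

/-- the check of a tree -/
noncomputable def ev (D : Dat) (R : Rows) (ν : List ℕ) (n : ℕ) (L : List Pd) (c : Tr) : List ℕ → List (List ℤ) → Bool :=
  Tr.rec (fun c S W => far D ν W n n 0 S 0 c 0 0 [] []) (fun S _ => kill D ν S n L)
    (fun t k _ ih S W => cond (stp D ν W n n 0 S (.pw t k)) (flt (fun u => !Nat.beq u t) S fun S' => ih S' W) false)
    (fun t p j _ _ => evB D ν n L t p j) (fun p r M M' _ => evM D R ν n L p r M M') c

theorem Cx.flt (C : Cx T R ν A Γ S) {f : ℕ → Bool} (h : ∀ a ∈ A, a ≠ 1 → f (T.ty a) = true) :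
    Cx T R ν A Γ (S.filter f) :=
  { C with
    sup := fun a ha => (eq_or_ne a 1).imp (C.hy.zero a).2 fun e => List.mem_filter.2 ⟨C.mem ha e, h a ha e⟩
    pos := fun t ht => C.pos t (List.mem_filter.1 ht).1 }

theorem Cx.ev (hL : ∀ y ∈ L, Ok D (Nat.card A) y) (hn : (L.map Pd.p).Nodup) (c : Tr) :
    ∀ {S : List ℕ} {W : List (List ℤ)}, Cx T R ν A Γ S → Pos T A W → ev D R ν (Nat.card A) L c S W ≠ true := by
  induction c with
  | lf c =>
    intro S W C hW h
    refine C.hy.far hW le_rfl le_rfl C.sup (a := 1) (Nat.zero_le _) (c := c) (x := 0) (y := 0) (p := []) (m := []) ?_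
    rw [(C.hy.zero 1).2 rfl]
    exact h
  | kl => exact fun C _ h => C.kill hL hn h
  | pw t k s ih =>
    intro S W C hW h
    obtain ⟨h1, h2⟩ := cond_ff (show cond (stp D ν W _ _ 0 S (.pw t k)) (Sp.flt (fun u => !Nat.beq u t) S fun S' =>
      Sp2.ev D R ν _ L s S' W) false = true from h)
    rw [flt_eq] at h2
    refine ih (C.flt fun a ha _ => ?_) hW h2
    rw [Bool.eq_false_iff.2 fun e : Nat.beq _ t = true =>
      C.hy.stp hW le_rfl le_rfl (fun _ _ => Nat.zero_le _) C.sup h1 ha (Nat.eq_of_beq_eq_true e)]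
    rfl
  | br t p j l r il ir =>
    intro S W C hW h
    obtain ⟨y, h1, h2⟩ := List.any_eq_true.1 (show evB D ν _ L t p j (Sp2.ev D R ν _ L l) (Sp2.ev D R ν _ L r) S W = true
      from h)
    simp only [Bool.and_eq_true, beq_iff_eq, Nat.blt_eq, frcLZ_eq, flt_eq] at h2
    obtain ⟨⟨⟨⟨rfl, h3⟩, h4⟩, h5⟩, h6⟩ := h2
    have hy := hL y h1
    obtain ⟨i, hi⟩ : y.m ∣ num T A t := C.ep.dvd hy.hp (fun s => T.ty s = t) (fun s g hs => (T.conj _ _).trans hs)
      (hy.hn ▸ dvd_mul_left _ _) hy.hm fun s hs => by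
        rw [← orderOf_coe, T.ord, hs]
        exact Nat.dvd_of_mod_eq_zero h3
    rcases le_or_gt i j with h7 | h7
    · have h8 : num T A t ≤ j * y.m := by rw [hi, mul_comm]; exact Nat.mul_le_mul_right _ h7
      refine il (C.flt fun a ha e => ?_) (pos_cons hW ?_) h5
      · by_cases h9 : T.ty a = t
        · rw [← h9, C.al ha e hy.hn (h9 ▸ h8), Bool.or_true]
        · rw [Bool.eq_false_iff.2 fun e => h9 (Nat.eq_of_beq_eq_true e)]
          rfl
      · rw [val_brv C.hy h4]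
        omega
    · have h8 : (j + 1) * y.m ≤ num T A t := by rw [hi, mul_comm]; exact Nat.mul_le_mul_left _ h7
      refine ir C (pos_cons hW ?_) h6
      rw [val_brv C.hy h4]
      omega
  | mo p r M M' s ih =>
    intro S W C hW h
    obtain ⟨y, h1, h2⟩ := List.any_eq_true.1 (show evM D R ν _ L p r M M' (Sp2.ev D R ν _ L s) S W = true from h)
    simp only [Bool.and_eq_true, bne_iff_ne, frcLZ_eq, List.all_eq_true, decide_eq_true_eq, Bool.or_eq_true] at h2
    obtain ⟨⟨⟨⟨⟨⟨-, h3⟩, h4⟩, h5⟩, h6⟩, h7⟩, h8⟩ := h2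
    exact ih C (pos_cons hW (C.mov (hL y h1) h3 h4 h5 r h6 fun t ht e => (h7 t ht).resolve_left fun k => k e)) h8

/-! ### the enumeration -/

/-- the data of the primes -/
noncomputable def mkD (n : ℕ) (PL : List (ℕ × ℕ)) : (List Pd → Bool) → Bool :=
  List.rec (fun κ => κ []) (fun y _ ih κ => frc (Nat.gcd n (y.1 ^ y.2)) fun q => frc (n / q) fun m =>
    frc ((q - (m % q) ^ (q - q / y.1 - 1) % q) % q) fun k =>
      Nat.blt k q && (k * m + 1) % q == 0 && m % y.1 != 0 && ih fun L => κ (⟨y.1, y.2, q, m, k⟩ :: L)) PL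

theorem mkD_spec {n : ℕ} (PL : List (ℕ × ℕ)) (hP : ∀ y ∈ PL, y.1.Prime ∧ ∃ u, D.N = y.1 ^ y.2 * u ∧ ¬ y.1 ∣ u) :
    ∀ {κ : List Pd → Bool}, mkD n PL κ = true →
      ∃ L, κ L = true ∧ (∀ x ∈ L, Ok D n x) ∧ L.map (fun x => (x.p, x.F)) = PL := by
  induction PL with
  | nil => exact fun h => ⟨[], h, fun _ h => absurd h List.not_mem_nil, rfl⟩
  | cons y PL ih =>
    intro κ h
    have h1 : (frc (Nat.gcd n (y.1 ^ y.2)) fun q => frc (n / q) fun m =>
      frc ((q - (m % q) ^ (q - q / y.1 - 1) % q) % q) fun k =>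
      Nat.blt k q && (k * m + 1) % q == 0 && m % y.1 != 0 && mkD n PL fun L => κ (⟨y.1, y.2, q, m, k⟩ :: L)) = true := h
    simp only [frc_eq, Bool.and_eq_true, beq_iff_eq, bne_iff_ne, Nat.blt_eq] at h1
    obtain ⟨⟨⟨h2, h3⟩, h4⟩, h5⟩ := h1
    obtain ⟨L, h6, h7, h8⟩ := ih (fun z hz => hP z (List.mem_cons_of_mem _ hz)) h5
    obtain ⟨h9, h10⟩ := hP y List.mem_cons_self
    exact ⟨_, h6, List.forall_mem_cons.2 ⟨⟨h9, h10, (Nat.dvd_prime_pow h9).1 (Nat.gcd_dvd_right _ _),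
      (Nat.mul_div_cancel' (Nat.gcd_dvd_left _ _)).symm, fun k => h4 (Nat.mod_eq_zero_of_dvd k), h2,
      Nat.dvd_of_mod_eq_zero h3⟩, h7⟩, by rw [List.map_cons, h8]⟩

/-- the test for one order -/
noncomputable def leaf (D : Dat) (R : Rows) (ν : List ℕ) (O : Sp.Out) (U : ℕ) (PL : List (ℕ × ℕ)) (RES : List ℕ)
    (CT : List (ℕ × Tr)) (n : ℕ) : Bool :=
  Nat.blt U n || n == 1 || RES.contains n ||
    frcL ((O.filter fun e => Nat.ble e.2.1 n && Nat.ble n e.2.2).map Prod.fst) fun S =>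
      S.all (fun t => PL.any fun y => y.1 ^ y.2 % D.ord t == 0) && mkD n PL fun L => kill D ν S n L ||
        CT.any fun e => e.1 == n && flt (fun t => L.any fun x => D.ord t % x.p == 0 && al D ν n x.q x.k t) S fun S' =>
          Sp.frcW (eqs D L ++ rowsP R) fun W => ev D R ν n L e.2 S' W

/-- **the check**: `PL` lists the primes with their exponents in `D.N`, `RES` the orders which are left -/
noncomputable def chk (D : Dat) (R : Rows) (ν : List ℕ) (O : Sp.Out) (U : ℕ) (PL : List (ℕ × ℕ)) (RES : List ℕ)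
    (CT : List (ℕ × Tr)) : Bool :=
  PL.all (fun y => decide y.1.Prime && D.N % y.1 ^ y.2 == 0 && D.N / y.1 ^ y.2 % y.1 != 0) &&
    decide (PL.map Prod.fst).Nodup && D.N % prodl PL == 0 && Nat.gcd (prodl PL) (D.N / prodl PL) == 1 &&
    O.all (fun e => prodl PL % D.ord e.1 == 0 && Nat.blt 0 (ntd ν 0 e.1)) &&
    frcL ν fun ν' => allA (leaf D R ν' O U PL RES CT) PL 1

/-- **the end game** -/
theorem main (H : Hy T R ν) (hU : Unif T) (hn : ¬ IsMulCommutative K) (ho : (Inn K).index ≤ 2) (hm : MI A Γ)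
    (hb : ¬ Good A) {O : Sp.Out} {U : ℕ} (hr : Res T A O U) {PL : List (ℕ × ℕ)} {RES : List ℕ} {CT : List (ℕ × Tr)}
    (h : chk D R ν O U PL RES CT = true) : Nat.card A ∈ RES := by
  simp only [chk, frcL_eq, Bool.and_eq_true, beq_iff_eq, bne_iff_ne, List.all_eq_true, decide_eq_true_eq,
    Nat.blt_eq] at h
  obtain ⟨⟨⟨⟨⟨h1, h2⟩, h3⟩, h4⟩, h5⟩, h6⟩ := h
  have h7 : Nat.card A ∣ prodl PL := by
    have h8 := A.card_subgroup_dvd_card
    rw [H.mass.1, ← Nat.mul_div_cancel' (Nat.dvd_of_mod_eq_zero h3)] at h8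
    refine Nat.Coprime.dvd_of_dvd_mul_right (Nat.coprime_of_dvd fun p hp k1 k2 => ?_) h8
    have := Fact.mk hp
    obtain ⟨a, ha⟩ := exists_prime_orderOf_dvd_card' p k1
    rw [← orderOf_coe] at ha
    obtain ⟨e, k3, k4, -⟩ := (hr.2 a a.2).resolve_left fun e => ne_one_of hp ha.symm.dvd ((H.zero _).1 e)
    have k5 := Nat.dvd_of_mod_eq_zero (h5 e k3).1
    rw [← k4, ← T.ord, ha] at k5
    exact hp.one_lt.ne' (Nat.dvd_one.1 (h4 ▸ Nat.dvd_gcd k5 k2))
  have h8 := allA_spec (fun y hy => (h1 y hy).1.1) 1 _ h6 h7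
  simp only [one_mul, leaf, frcL_eq, Bool.or_eq_true, Bool.and_eq_true, beq_iff_eq, Nat.blt_eq, List.all_eq_true,
    List.any_eq_true, List.contains_iff_mem] at h8
  rcases h8 with ((h8 | h8) | h8) | ⟨h8, h9⟩
  · exact absurd hr.1 (not_le.2 h8)
  · exact absurd (card_eq_one.1 h8) hm.ne_bot
  · exact h8
  obtain ⟨L, h10, h11, h12⟩ := mkD_spec (D := D) PL (fun y hy => ⟨(h1 y hy).1.1, _,
    (Nat.mul_div_cancel' (Nat.dvd_of_mod_eq_zero (h1 y hy).1.2)).symm, fun k => (h1 y hy).2 (Nat.mod_eq_zero_of_dvd k)⟩) h9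
  set S := (O.filter fun e => Nat.ble e.2.1 (Nat.card A) && Nat.ble (Nat.card A) e.2.2).map Prod.fst
  have hS : Sup T A S := fun a ha => (hr.2 a ha).imp id fun ⟨e, k1, k2, k3, k4⟩ => List.mem_map.2 ⟨e,
    List.mem_filter.2 ⟨k1, by rw [Nat.ble_eq_true_of_le k3, Nat.ble_eq_true_of_le k4]; rfl⟩, k2.symm⟩
  have h13 : ∀ a ∈ A, a ≠ 1 → ∃ y ∈ L, orderOf a ∣ y.p ^ y.F := fun a ha e => by
    obtain ⟨y, k1, k2⟩ := h8 _ ((hS a ha).resolve_left fun k => e ((H.zero a).1 k))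
    rw [← h12] at k1
    obtain ⟨z, k3, rfl⟩ := List.mem_map.1 k1
    exact ⟨z, k3, T.ord a ▸ Nat.dvd_of_mod_eq_zero k2⟩
  have C : Cx T R ν A Γ S := ⟨H, hU, hn, ho, hm, hb, fun a p q hp hq k1 k2 => by
    rw [← orderOf_coe] at k1 k2
    obtain ⟨y, k3, k4⟩ := h13 a a.2 (ne_one_of hp k1)
    rw [(Nat.prime_dvd_prime_iff_eq hp (h11 y k3).hp).1 (hp.dvd_of_dvd_pow (k1.trans k4)),
      (Nat.prime_dvd_prime_iff_eq hq (h11 y k3).hp).1 (hq.dvd_of_dvd_pow (k2.trans k4))], hS, fun t ht => by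
    obtain ⟨e, k1, rfl⟩ := List.mem_map.1 ht
    exact (h5 e (List.mem_filter.1 k1).1).2⟩
  have h14 : (L.map Pd.p).Nodup := by
    rw [← h12, List.map_map] at h2
    exact h2
  simp only [Bool.or_eq_true, Bool.and_eq_true, List.any_eq_true, flt_eq, Sp.frcW_eq] at h10
  rcases h10 with h10 | ⟨e, -, -, h10⟩
  · exact absurd h10 (C.kill h11 h14)
  refine absurd h10 (Cx.ev h11 h14 _ (C.flt fun a ha e => ?_) (H.pos (C.eqs h11)))
  obtain ⟨y, k1, k2⟩ := h13 a ha e
  obtain ⟨j, -, k3⟩ := (Nat.dvd_prime_pow (h11 y k1).hp).1 k2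
  exact List.any_eq_true.2 ⟨y, k1, (List.mem_filter.1 (C.AL (h11 y k1) ha (by
    rw [k3]
    exact dvd_pow_self _ fun k => e (orderOf_eq_one_iff.1 (by rw [k3, k, pow_zero]))))).2⟩

end Cfsg.Agent.N2.Sp2
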