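import Cfsg.Agent.N2.Tool
import Cfsg.Agent.TAB.Eng.Defs
import Cfsg.Agent.Solvable.FpfPGroup
import Cfsg.Agent.S0016
import Cfsg.Agent.S0144
import Cfsg.Agent.SB.Red.Simple

/-!
# N2 (S3519), sporadic groups: groups whose elements have prime power order (helper44)
-/

set_option autoImplicit false
set_option linter.unusedSectionVars false

namespace Cfsg.Agent.N2.Sp2

open Cfsg Subgroup

/-- every element has prime power order -/
def Ep (G : Type*) [Group G] : Prop :=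
  ∀ (a : G) (p q : ℕ), p.Prime → q.Prime → p ∣ orderOf a → q ∣ orderOf a → p = q

/-- the number of elements of order divisible by `p` -/
noncomputable def np (G : Type*) [Group G] (p : ℕ) : ℕ := Nat.card {a : G // p ∣ orderOf a}

variable {G : Type*} [Group G] [Finite G] {p q m : ℕ}

omit [Finite G] in
theorem Ep.sub (h : Ep G) (B : Subgroup G) : Ep B := fun a p q hp hq h1 h2 =>
  h a p q hp hq (by rwa [orderOf_coe]) (by rwa [orderOf_coe])

theorem Ep.comm (h : Ep G) {a b : G} (hab : Commute a b) (hp : p.Prime) (hq : q.Prime) (h1 : p ∣ orderOf a)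
    (h2 : q ∣ orderOf b) : p = q := by
  by_contra hne
  have h3 := orderOf_pow_orderOf_div (orderOf_pos a).ne' h1
  have h4 := orderOf_pow_orderOf_div (orderOf_pos b).ne' h2
  have h5 := (hab.pow_pow (orderOf a / p) (orderOf b / q)).orderOf_mul_eq_mul_orderOf_of_coprime
    (by rw [h3, h4]; exact (Nat.coprime_primes hp hq).2 hne)
  rw [h3, h4] at h5
  exact hne (h _ p q hp hq (h5 ▸ dvd_mul_right p q) (h5 ▸ dvd_mul_left q p))

theorem pgrp_of {C : Subgroup G} (h : ∀ c ∈ C, ∀ r : ℕ, r.Prime → r ∣ orderOf c → r = p) : IsPGroup p C := fun c =>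
  ⟨_, by
    rw [← Nat.eq_prime_pow_of_unique_prime_dvd (orderOf_pos c).ne' fun hr hd => h c c.2 _ hr (by rwa [orderOf_coe]),
      pow_orderOf_eq_one]⟩

theorem Ep.cent (h : Ep G) {a : G} (hp : p.Prime) (h1 : p ∣ orderOf a) : IsPGroup p (centralizer ({a} : Set G)) :=
  pgrp_of fun _ hc _ hr hd => (h.comm (mem_centralizer_singleton_iff.1 hc).symm hp hr h1 hd).symm

theorem dvd_ord (hp : p.Prime) {P : Subgroup G} (hP : IsPGroup p P) {x : G} (hx : x ∈ P) (h1 : x ≠ 1) :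
    p ∣ orderOf x := by
  have := Fact.mk hp
  obtain ⟨k, hk⟩ := IsPGroup.iff_orderOf.1 hP ⟨x, hx⟩
  rw [orderOf_mk] at hk
  rw [hk]
  exact dvd_pow_self p fun e => h1 (orderOf_eq_one_iff.1 (by rw [hk, e, pow_zero]))

/-- unions of classes -/
theorem dvd_card (X : G → Prop) (hX : ∀ x g, X x → X (g * x * g⁻¹)) (hm : m ∣ Nat.card G)
    (h : ∀ x, X x → (Nat.card (centralizer ({x} : Set G))).Coprime m) : m ∣ Nat.card {x // X x} := by
  have := Fintype.ofFinite (ConjClasses G)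
  rw [← Nat.card_congr (Equiv.sigmaFiberEquiv fun x : {x // X x} => ConjClasses.mk x.1), Nat.card_sigma]
  refine Finset.dvd_sum fun c _ => ?_
  rcases isEmpty_or_nonempty {x : {x // X x} // ConjClasses.mk x.1 = c} with e | ⟨⟨⟨x, hx⟩, rfl⟩⟩
  · simp
  · have h1 : Nat.card {y : {x // X x} // ConjClasses.mk y.1 = ConjClasses.mk x} = Nat.card {g : G // IsConj x g} :=
      Nat.card_congr ⟨fun y => ⟨y.1.1, (ConjClasses.mk_eq_mk_iff_isConj.1 y.2).symm⟩, fun g => ⟨⟨g.1, by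
        obtain ⟨c, hc⟩ := isConj_iff.1 g.2
        exact hc ▸ hX x c hx⟩, ConjClasses.mk_eq_mk_iff_isConj.2 g.2.symm⟩, fun _ => rfl, fun _ => rfl⟩
    rw [h1]
    exact (h x hx).symm.dvd_of_dvd_mul_right ((TAB.Eng.card_class x).symm ▸ hm)

theorem cop_of (hp : p.Prime) {C : Subgroup G} (hC : IsPGroup p C) (hm : ¬ p ∣ m) : (Nat.card C).Coprime m := by
  have := Fact.mk hp
  obtain ⟨k, hk⟩ := IsPGroup.iff_card.1 hC
  exact hk ▸ (hp.coprime_iff_not_dvd.2 hm).pow_left k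

theorem Ep.dvd (h : Ep G) (hp : p.Prime) (X : G → Prop) (hX : ∀ x g, X x → X (g * x * g⁻¹)) (hm : m ∣ Nat.card G)
    (hpm : ¬ p ∣ m) (h1 : ∀ x, X x → p ∣ orderOf x) : m ∣ Nat.card {x // X x} :=
  dvd_card X hX hm fun x hx => cop_of hp (h.cent hp (h1 x hx)) hpm

omit [Finite G] in
theorem ord_conj (x g : G) : orderOf (g * x * g⁻¹) = orderOf x := (MulAut.conj g).orderOf_eq x

theorem card_ne : Nat.card {x : G // x ≠ 1} + 1 = Nat.card G := by
  classical
  have := Fintype.ofFinite G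
  rw [Nat.card_eq_fintype_card, Nat.card_eq_fintype_card, Fintype.card_subtype_compl, Fintype.card_subtype_eq,
    Nat.sub_add_cancel Fintype.card_pos]

theorem np_lt (hp : p.Prime) : np G p < Nat.card G := by
  rw [← card_ne, Nat.lt_succ_iff]
  exact Nat.card_le_card_of_injective (β := {x : G // x ≠ 1}) (fun x => ⟨x.1, fun e => hp.one_lt.ne'
    (Nat.dvd_one.1 (by simpa [e] using x.2))⟩) fun _ _ e => Subtype.ext (congrArg Subtype.val e :)

/-- **the number of `p`-elements** -/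
theorem Ep.np_eq (h : Ep G) (hp : p.Prime) {a k : ℕ} (hn : Nat.card G = p ^ a * m) (hpm : ¬ p ∣ m) (hk : k < p ^ a)
    (hk' : p ^ a ∣ k * m + 1) : np G p = k * m := by
  classical
  obtain ⟨j, hj⟩ := h.dvd hp (fun x => p ∣ orderOf x) (fun x g hx => by rwa [ord_conj]) (hn ▸ dvd_mul_left m _) hpm
    fun _ hx => hx
  have h1 : p ^ a ∣ Nat.card {x : G // x ≠ 1 ∧ ¬ p ∣ orderOf x} := by
    refine dvd_card _ (fun x g hx => ⟨fun e => hx.1 (by simpa using e), by rw [ord_conj]; exact hx.2⟩)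
      (hn ▸ dvd_mul_right _ m) fun x hx => ?_
    obtain ⟨r, hr, h2⟩ := Nat.exists_prime_and_dvd (mt orderOf_eq_one_iff.1 hx.1)
    exact cop_of hr (h.cent hr h2) fun h3 =>
      hx.2 ((Nat.prime_dvd_prime_iff_eq hr hp).1 (hr.dvd_of_dvd_pow h3) ▸ h2)
  have h2 : np G p + Nat.card {x : G // x ≠ 1 ∧ ¬ p ∣ orderOf x} + 1 = Nat.card G := by
    have := Fintype.ofFinite G
    rw [← card_ne (G := G), np, Nat.card_eq_fintype_card, Nat.card_eq_fintype_card, Nat.card_eq_fintype_card,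
      Fintype.card_subtype, Fintype.card_subtype, Fintype.card_subtype,
      ← Finset.card_filter_add_card_filter_not (s := Finset.univ.filter fun x : G => x ≠ 1) fun x => p ∣ orderOf x,
      Finset.filter_filter, Finset.filter_filter]
    congr 3
    exact Finset.filter_congr fun x _ => ⟨fun h3 => ⟨fun e => hp.one_lt.ne' (Nat.dvd_one.1 (by simpa [e] using h3)), h3⟩,
      fun h3 => h3.2⟩
  have h3 : np G p = m * j := hj
  have h4 : p ^ a ∣ j * m + 1 := by
    have h5 : p ^ a ∣ Nat.card {x : G // x ≠ 1 ∧ ¬ p ∣ orderOf x} + (j * m + 1) := by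
      rw [add_comm, add_right_comm, mul_comm j, ← h3, h2, hn]
      exact dvd_mul_right _ _
    exact (Nat.dvd_add_right h1).1 h5
  have h5 : j < p ^ a := by
    have h6 := np_lt (G := G) hp
    rw [h3, hn, mul_comm] at h6
    exact Nat.lt_of_mul_lt_mul_right h6
  have h6 : j ≡ k [MOD p ^ a] := by
    refine Nat.ModEq.cancel_right_of_coprime ((hp.coprime_iff_not_dvd.2 hpm).pow_left a) (Nat.ModEq.add_right_cancel' 1 ?_)
    exact ((Nat.modEq_zero_iff_dvd).2 h4).trans ((Nat.modEq_zero_iff_dvd).2 hk').symm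
  rw [h3, Nat.ModEq.eq_of_lt_of_lt h6 h5 hk, mul_comm]

/-- the sets of `p`-elements are disjoint -/
theorem Ep.sum_lt (h : Ep G) (L : List ℕ) (hL : ∀ p ∈ L, p.Prime) (hn : L.Nodup) :
    (L.map (np G)).sum < Nat.card G := by
  classical
  have := Fintype.ofFinite G
  rw [← card_ne, Nat.lt_succ_iff, ← List.sum_toFinset _ hn, Nat.card_eq_fintype_card, Fintype.card_subtype]
  have h1 : ∀ p ∈ L.toFinset, np G p = (Finset.univ.filter fun x : G => p ∣ orderOf x).card := fun p _ => by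
    rw [np, Nat.card_eq_fintype_card, Fintype.card_subtype]
  rw [Finset.sum_congr rfl h1, ← Finset.card_biUnion]
  · refine Finset.card_le_card fun x hx => ?_
    obtain ⟨p, hp, h2⟩ := Finset.mem_biUnion.1 hx
    refine Finset.mem_filter.2 ⟨Finset.mem_univ _, fun e => (hL p (List.mem_toFinset.1 hp)).one_lt.ne' ?_⟩
    simpa [e] using h2
  · intro p hp q hq hne
    refine Finset.disjoint_left.2 fun x h2 h3 => hne ?_
    exact h x p q (hL p (List.mem_toFinset.1 hp)) (hL q (List.mem_toFinset.1 hq)) (Finset.mem_filter.1 h2).2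
      (Finset.mem_filter.1 h3).2

theorem card_ne' (Q : Subgroup G) : Nat.card {x : G // x ∈ Q ∧ x ≠ 1} + 1 = Nat.card Q := by
  rw [← card_ne (G := Q)]
  congr 1
  exact Nat.card_congr ⟨fun x => ⟨⟨x.1, x.2.1⟩, fun e => x.2.2 (congrArg Subtype.val e)⟩,
    fun x => ⟨x.1.1, x.1.2, fun e => x.2 (Subtype.ext e)⟩, fun _ => rfl, fun _ => rfl⟩

variable [hp : Fact p.Prime]

theorem exists_syl (h : Ep G) {x : G} (hx : p ∣ orderOf x) : ∃ P : Sylow p G, centralizer {x} ≤ (P : Subgroup G) :=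
  (h.cent hp.1 hx).exists_le_sylow

theorem card_le_np (P : Sylow p G) : Nat.card P ≤ np G p + 1 := by
  rw [← card_ne' (P : Subgroup G), Nat.succ_le_succ_iff]
  exact Nat.card_le_card_of_injective (β := {a : G // p ∣ orderOf a})
    (fun x => ⟨x.1, dvd_ord hp.1 P.isPGroup' x.2.1 x.2.2⟩) fun _ _ e => Subtype.ext (congrArg Subtype.val e :)

/-- few `p`-elements -/
theorem normal_of_np (P : Sylow p G) (h : np G p + 1 ≤ Nat.card P) : (P : Subgroup G).Normal := by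
  rw [← card_ne' (P : Subgroup G), Nat.succ_le_succ_iff] at h
  have h1 := Function.Injective.bijective_of_nat_card_le (β := {a : G // p ∣ orderOf a})
    (f := fun x : {x : G // x ∈ (P : Subgroup G) ∧ x ≠ 1} => ⟨x.1, dvd_ord hp.1 P.isPGroup' x.2.1 x.2.2⟩)
    (fun _ _ e => Subtype.ext (congrArg Subtype.val e :)) h
  refine ⟨fun x hx g => ?_⟩
  by_cases h2 : x = 1
  · simp [h2]
  · obtain ⟨y, hy⟩ := h1.2 ⟨g * x * g⁻¹, by rw [ord_conj]; exact dvd_ord hp.1 P.isPGroup' hx h2⟩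
    have h3 : y.1 = g * x * g⁻¹ := congrArg Subtype.val hy
    exact h3 ▸ y.2.1

theorem np_of_normal (h : Ep G) (P : Sylow p G) [(P : Subgroup G).Normal] : np G p + 1 = Nat.card P := by
  refine le_antisymm ?_ (card_le_np P)
  rw [← card_ne' (P : Subgroup G), Nat.succ_le_succ_iff]
  have := Sylow.unique_of_normal P inferInstance
  refine Nat.card_le_card_of_injective (β := {x : G // x ∈ (P : Subgroup G) ∧ x ≠ 1}) (fun x => ⟨x.1, ?_, fun e =>
    hp.1.one_lt.ne' (Nat.dvd_one.1 (by simpa [e] using x.2))⟩) fun _ _ e => Subtype.ext (congrArg Subtype.val e :)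
  obtain ⟨Q, hQ⟩ := exists_syl h x.2
  exact Subsingleton.elim Q P ▸ hQ (mem_centralizer_singleton_iff.2 rfl)

/-- **abelian Sylow subgroups meet trivially** -/
theorem Ep.np_ti (h : Ep G) (P : Sylow p G) (hP : IsMulCommutative P) :
    np G p = (normalizer (P : Set G)).index * (Nat.card P - 1) := by
  have h1 : ∀ (Q : Sylow p G) {x : G}, x ∈ (Q : Subgroup G) → p ∣ orderOf x → centralizer {x} = (Q : Subgroup G) := by
    intro Q x hx h2
    refine Q.is_maximal' (h.cent hp.1 h2) fun y hy => mem_centralizer_singleton_iff.2 ?_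
    have h3 := hP.is_comm.comm ((Q.equiv P) ⟨y, hy⟩) ((Q.equiv P) ⟨x, hx⟩)
    rw [← map_mul, ← map_mul] at h3
    exact congrArg Subtype.val ((Q.equiv P).injective h3)
  choose f hf using fun x : {a : G // p ∣ orderOf a} => exists_syl h x.2
  rw [← P.card_eq_index_normalizer]
  refine card_fib f _ fun Q => ?_
  rw [← Nat.card_congr (Q.equiv P).toEquiv, ← card_ne' (Q : Subgroup G), Nat.add_sub_cancel]
  refine Nat.card_congr ⟨fun x => ⟨x.1.1, (congrArg Sylow.toSubgroup x.2).le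
    (hf x.1 (mem_centralizer_singleton_iff.2 rfl)), fun e =>
    hp.1.one_lt.ne' (Nat.dvd_one.1 (by simpa [e] using x.1.2))⟩, fun x => ⟨⟨x.1, dvd_ord hp.1 Q.isPGroup' x.2.1 x.2.2⟩,
      Sylow.ext ?_⟩, fun _ => rfl, fun _ => rfl⟩
  have h2 := dvd_ord hp.1 Q.isPGroup' x.2.1 x.2.2
  exact Q.is_maximal' (f _).isPGroup' ((h1 Q x.2.1 h2).ge.trans (hf ⟨x.1, h2⟩))

section loc

variable {Q : Subgroup G} [Q.Normal]

/-- the `p'`-part divides `|Q| - 1` -/
theorem Ep.dvd_loc (h : Ep G) (hQ : IsPGroup p Q) (hm : m ∣ Nat.card G) (hpm : ¬ p ∣ m) : m ∣ Nat.card Q - 1 := by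
  rw [← card_ne' Q, Nat.add_sub_cancel]
  exact h.dvd hp.1 _ (fun x g hx => ⟨Normal.conj_mem inferInstance x hx.1 g, fun e => hx.2 (by simpa using e)⟩) hm hpm
    fun x hx => dvd_ord hp.1 hQ hx.1 hx.2

omit [Q.Normal] in
theorem Ep.cent_loc (h : Ep G) (hQ : IsPGroup p Q) (h0 : Q ≠ ⊥) : IsPGroup p (centralizer (Q : Set G)) := by
  obtain ⟨⟨x, hx⟩, h1⟩ := ne_bot_iff_exists_ne_one.1 h0
  exact (h.cent hp.1 (dvd_ord hp.1 hQ hx fun e => h1 (Subtype.ext e))).to_le
    (centralizer_le (Set.singleton_subset_iff.2 hx))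

omit [Q.Normal] in
theorem Ep.fpf (h : Ep G) (hQ : IsPGroup p Q) {a : G} (hq : q.Prime) (hne : q ≠ p) (ha : q ∣ orderOf a) {x : G}
    (hx : x ∈ Q) (hc : Commute a x) : x = 1 :=
  by_contra fun e => hne (h.comm hc hq hp.1 ha (dvd_ord hp.1 hQ hx e))

/-- the other Sylow subgroups of odd order are cyclic -/
theorem Ep.cyc (h : Ep G) (hQ : IsPGroup p Q) (h0 : Q ≠ ⊥) [hq : Fact q.Prime] (hne : q ≠ p) (h2 : q ≠ 2)
    (R : Sylow q G) : ∃ a : G, orderOf a = Nat.card R := by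
  have h1 := Solvable.FpfPGroup.unique_subgroup_of_fpf (R : Subgroup G) Q h0 (by rw [normalizer_eq_top]; exact le_top)
    (fun a ha h3 => eq_bot_iff.2 fun x hx => h.fpf hQ hq.1 hne (dvd_ord hq.1 R.isPGroup' ha h3) hx.1
      (mem_centralizer_singleton_iff.1 hx.2).symm) hq.1 R.isPGroup' (R : Subgroup G).subtype
    (R : Subgroup G).subtype_injective fun x => x.2
  obtain ⟨a, ha⟩ := ((S0016.result q R.isPGroup' h1).resolve_right fun h3 => h2 h3.1).exists_ofOrder_eq_natCard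
  exact ⟨a, by rw [orderOf_coe, ha]⟩

/-- an involution inverts `Q` -/
theorem Ep.inv (h : Ep G) (hQ : IsPGroup p Q) (h2 : p ≠ 2) {u : G} (hu : orderOf u = 2) {x : G} (hx : x ∈ Q) :
    u * x * u⁻¹ = x⁻¹ := by
  have h1 : u * u = 1 := by rw [← pow_two, ← hu, pow_orderOf_eq_one]
  have h3 : MonoidHom.FixedPointFree (MulAut.conjNormal (H := Q) u) := fun y hy => Subtype.ext
    (h.fpf hQ Nat.prime_two h2.symm (hu ▸ dvd_rfl) y.2 (mul_inv_eq_iff_eq_mul.1 (congrArg Subtype.val hy :)))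
  have h4 := h3.coe_eq_inv_of_involutive fun y => by
    rw [← MulAut.mul_apply, ← map_mul, h1, map_one, MulAut.one_apply]
  exact congrArg Subtype.val (congrFun h4 ⟨x, hx⟩)

/-- the elements of odd order centralise `Q` -/
theorem Ep.odd (h : Ep G) (hQ : IsPGroup p Q) (h2 : p ≠ 2) (h3 : 2 ∣ Nat.card G) {g : G} (hg : ¬ 2 ∣ orderOf g) :
    g ∈ centralizer (Q : Set G) := by
  obtain ⟨u, hu⟩ := exists_prime_orderOf_dvd_card' 2 h3
  let φ : G →* MulAut Q := MulAut.conjNormal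
  have h4 : ∀ x : Q, φ u x = x⁻¹ := fun x => Subtype.ext (h.inv hQ h2 hu x.2)
  have h5 : Commute (φ u) (φ g) := MulEquiv.ext fun x => by
    rw [MulAut.mul_apply, MulAut.mul_apply, h4, h4, map_inv]
  have h6 : φ g = 1 := by
    by_contra h6
    obtain ⟨r, hr, h7⟩ := Nat.exists_prime_and_dvd (mt orderOf_eq_one_iff.1 h6)
    have h8 : r ≠ 2 := fun e => hg (e ▸ h7.trans (orderOf_map_dvd φ g))
    have h9 : orderOf (φ u) = 2 := by
      refine ((Nat.dvd_prime Nat.prime_two).1 (hu ▸ orderOf_map_dvd φ u)).resolve_left fun e => h6 (MulEquiv.ext fun x => ?_)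
      have h10 : x = 1 := Subtype.ext (h.fpf hQ Nat.prime_two h2.symm (hu ▸ dvd_rfl) x.2 (mul_inv_eq_iff_eq_mul.1
        (congrArg Subtype.val (MulEquiv.congr_fun (orderOf_eq_one_iff.1 e) x) :)))
      rw [h10, map_one, map_one]
    have h10 := h5.orderOf_mul_eq_mul_orderOf_of_coprime (by
      rw [h9]
      exact Nat.prime_two.coprime_iff_not_dvd.2 fun e => hg (e.trans (orderOf_map_dvd φ g)))
    have h11 := orderOf_map_dvd φ (u * g)
    rw [map_mul, h10, h9] at h11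
    exact h8 (h _ r 2 hr Nat.prime_two ((h7.mul_left 2).trans h11) ((dvd_mul_right 2 _).trans h11))
  exact mem_centralizer_iff.2 fun x hx =>
    (mul_inv_eq_iff_eq_mul.1 (congrArg Subtype.val (MulEquiv.congr_fun h6 ⟨x, hx⟩) :)).symm

theorem Ep.odd_prime (h : Ep G) (hQ : IsPGroup p Q) (h0 : Q ≠ ⊥) (h2 : p ≠ 2) (h3 : 2 ∣ Nat.card G) (hq : q.Prime)
    (h4 : q ∣ Nat.card G) : q = 2 ∨ q = p := by
  have := Fact.mk hq
  obtain ⟨g, hg⟩ := exists_prime_orderOf_dvd_card' q h4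
  refine or_iff_not_imp_left.2 fun h5 => ?_
  have h6 := dvd_ord hp.1 (h.cent_loc hQ h0) (h.odd hQ h2 h3 (g := g) fun e =>
    h5 ((Nat.prime_dvd_prime_iff_eq Nat.prime_two hq).1 (hg ▸ e)).symm) fun e => hq.one_lt.ne' (by simpa [e] using hg.symm)
  exact ((Nat.prime_dvd_prime_iff_eq hp.1 hq).1 (hg ▸ h6)).symm

theorem syl_odd (h2 : p ≠ 2) (P : Sylow p G) {x : G} (hx : x ∈ (P : Subgroup G)) : ¬ 2 ∣ orderOf x := fun e => by
  obtain ⟨k, hk⟩ := IsPGroup.iff_orderOf.1 P.isPGroup' ⟨x, hx⟩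
  rw [orderOf_mk] at hk
  exact h2 ((Nat.prime_dvd_prime_iff_eq Nat.prime_two hp.1).1 (Nat.prime_two.dvd_of_dvd_pow (hk ▸ e))).symm

theorem Ep.normal (h : Ep G) (hQ : IsPGroup p Q) (h0 : Q ≠ ⊥) (h2 : p ≠ 2) (h3 : 2 ∣ Nat.card G) (P : Sylow p G) :
    (P : Subgroup G).Normal := by
  rw [← P.is_maximal' (h.cent_loc hQ h0) fun x hx => h.odd hQ h2 h3 (syl_odd h2 P hx)]
  infer_instance

theorem Ep.ab (h : Ep G) (h2 : p ≠ 2) (h3 : 2 ∣ Nat.card G) (P : Sylow p G) [(P : Subgroup G).Normal] :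
    IsMulCommutative P :=
  ⟨⟨fun a b => Subtype.ext (mem_centralizer_iff.1 (h.odd P.isPGroup' h2 h3 (syl_odd h2 P b.2)) a a.2)⟩⟩

end loc

theorem ab_of_sq (P : Sylow p G) (h : Nat.card P ∣ p ^ 2) : IsMulCommutative P := by
  obtain ⟨k, hk, e⟩ := (Nat.dvd_prime_pow hp.1).1 h
  rcases Nat.lt_or_ge k 2 with h1 | h1
  · have : IsCyclic P := isCyclic_of_card_dvd_prime (p := p) (e ▸ (pow_dvd_pow p (Nat.lt_succ_iff.1 h1)).trans (by simp))
    infer_instance
  · exact ⟨⟨(IsPGroup.commGroupOfCardEqPrimeSq (le_antisymm hk h1 ▸ e)).mul_comm⟩⟩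

omit hp [Finite G] in
theorem ab_of_two (P : Subgroup G) (h : ∀ x ∈ P, x * x = 1) : IsMulCommutative P :=
  ⟨⟨fun a b => Subtype.ext (by
    have h1 := fun x (hx : x ∈ P) => eq_inv_of_mul_eq_one_left (h x hx)
    show (a : G) * b = b * a
    rw [h1 _ (P.mul_mem a.2 b.2), mul_inv_rev, ← h1 _ a.2, ← h1 _ b.2])⟩⟩

omit hp in
/-- two primes -/
theorem exists_core [Nontrivial G] (hp : p.Prime) (hq : q.Prime) {a b : ℕ} (hn : Nat.card G ∣ p ^ a * q ^ b) :
    ∃ r, r.Prime ∧ r ∣ Nat.card G ∧ pCore r G ≠ ⊥ := by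
  obtain ⟨x, y, hx, hy, e⟩ := Nat.dvd_mul.1 hn
  obtain ⟨i, -, rfl⟩ := (Nat.dvd_prime_pow hp).1 hx
  obtain ⟨j, -, rfl⟩ := (Nat.dvd_prime_pow hq).1 hy
  obtain ⟨r, hr, h⟩ := SB.Red.exists_pCore_ne_bot (S0144.result p q i j hp hq e.symm)
  obtain ⟨⟨x, hx⟩, h1⟩ := ne_bot_iff_exists_ne_one.1 h
  exact ⟨r, hr, (dvd_ord hr (Lib.Cores.pCore_isPGroup r) hx fun e => h1 (Subtype.ext e)).trans
    (orderOf_dvd_natCard x), h⟩

end Cfsg.Agent.N2.Sp2
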