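import Cfsg.Agent.N2.Sp2.Ep
import Cfsg.Agent.S0112
import Cfsg.Agent.S0113
import Cfsg.Agent.S0665
import Cfsg.Agent.S3073
import Cfsg.Agent.S3385
import Cfsg.Agent.S3683

/-!
# N2 (S3519), sporadic groups: Sylow subgroups of a maximal invariant subgroup (helper44)
-/

set_option autoImplicit false
set_option linter.unusedSectionVars false

namespace Cfsg.Agent.N2.Sp2

open Cfsg Cfsg.Agent.FP3 Subgroup
open scoped Pointwise

section gen

variable {T : Type*} [Group T] [Finite T] {A : Subgroup T} {p : ℕ} [hp : Fact p.Prime]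

omit hp in
theorem char_map {S : Type*} [Group S] [Finite S] (ι : S →* T) (hι : Function.Injective ι) (W : Subgroup S)
    [hW : W.Characteristic] (φ : T →* T) (hφ : Function.Injective φ) (h : ∀ s, φ (ι s) ∈ ι.range) {w : S} (hw : w ∈ W) :
    φ (ι w) ∈ W.map ι := by
  let f : S →* S := (MonoidHom.ofInjective hι).symm.toMonoidHom.comp ((φ.comp ι).codRestrict ι.range h)
  have h1 : ∀ s, ι (f s) = φ (ι s) := fun s => MonoidHom.apply_ofInjective_symm hι _
  have h2 : Function.Injective f := fun a b e => hι (hφ (by rw [← h1, e, h1]))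
  exact ⟨f w, characteristic_iff_le_comap.1 hW (MulEquiv.ofBijective f (Finite.injective_iff_bijective.1 h2)) hw, h1 w⟩

/-- the inclusion of a Sylow subgroup of `A` -/
def inc (P : Sylow p A) : P →* T := A.subtype.comp (P : Subgroup A).subtype

theorem inc_inj (P : Sylow p A) : Function.Injective (inc P) :=
  A.subtype_injective.comp (P : Subgroup A).subtype_injective

theorem mem_inc {P : Sylow p A} {x : T} : x ∈ (inc P).range ↔ ∃ h : x ∈ A, (⟨x, h⟩ : A) ∈ (P : Subgroup A) :=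
  ⟨by rintro ⟨s, rfl⟩; exact ⟨s.1.2, s.2⟩, fun ⟨h, h'⟩ => ⟨⟨⟨x, h⟩, h'⟩, rfl⟩⟩

theorem card_inc (P : Sylow p A) : Nat.card (inc P).range = Nat.card P :=
  (Nat.card_congr (MonoidHom.ofInjective (inc_inj P)).toEquiv).symm

theorem pg_inc (P : Sylow p A) : IsPGroup p (inc P).range :=
  P.isPGroup'.of_equiv (MonoidHom.ofInjective (inc_inj P))

theorem not_dvd_of_norm (P : Sylow p A) (hN : normalizer ((inc P).range : Set T) ≤ A) : ¬ p ∣ A.index := by
  intro h
  obtain ⟨n, hn⟩ := IsPGroup.iff_card.1 P.isPGroup'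
  have h1 : p ^ (n + 1) ∣ Nat.card T := by
    rw [← A.card_mul_index, pow_succ]
    exact Nat.mul_dvd_mul (hn ▸ card_subgroup_dvd_card _) h
  have h2 := (Sylow.prime_pow_dvd_card_normalizer h1 ((card_inc P).trans hn)).trans (card_dvd_of_le hN)
  rw [← (P : Subgroup A).card_mul_index, hn, pow_succ] at h2
  exact P.not_dvd_index (Nat.dvd_of_mul_dvd_mul_left (pow_pos hp.1.pos n) h2)

theorem card_syl {G : Type*} [Group G] [Finite G] (S : Sylow p G) {a m : ℕ} (h : Nat.card G = p ^ a * m)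
    (hm : ¬ p ∣ m) : Nat.card S = p ^ a := by
  have h0 : m ≠ 0 := fun e => hm (e ▸ dvd_zero p)
  rw [S.card_eq_multiplicity, h, Nat.factorization_mul (pow_ne_zero a hp.1.ne_zero) h0, Finsupp.add_apply,
    Nat.factorization_eq_zero_of_not_dvd hm, hp.1.factorization_pow, Finsupp.single_eq_same, add_zero]

/-- powers of the `p`-elements are conjugate into `A` -/
theorem pow_into (P : Sylow p A) {F u d : ℕ} (hT : Nat.card T = p ^ F * u) (hu : ¬ p ∣ u)
    (hd : Nat.card P * d = p ^ F) {g : T} (hg : orderOf g ∣ p ^ F) : ∃ t, t * g ^ d * t⁻¹ ∈ A := by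
  obtain ⟨S, hS⟩ := (pg_inc P).exists_le_sylow
  have h1 : IsPGroup p (zpowers g) := by
    obtain ⟨k, -, hk⟩ := (Nat.dvd_prime_pow hp.1).1 hg
    exact IsPGroup.of_card (by rw [Nat.card_zpowers, hk])
  obtain ⟨S', hS'⟩ := h1.exists_le_sylow
  obtain ⟨t, rfl⟩ := MulAction.exists_smul_eq T S' S
  have h2 : t * g * t⁻¹ ∈ ((t • S' : Sylow p T) : Subgroup T) := ⟨g, hS' (mem_zpowers g), rfl⟩
  have h3 : (inc P).range.relIndex (t • S' : Sylow p T) = d := by
    have h4 := ((inc P).range.subgroupOf (t • S' : Sylow p T)).card_mul_index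
    rw [Nat.card_congr (subgroupOfEquivOfLe hS).toEquiv, card_inc, card_syl _ hT hu, ← hd] at h4
    exact Nat.eq_of_mul_eq_mul_left Nat.card_pos h4
  have h4 := relIndex_le_of_le_right (H := (inc P).range) (zpowers_le.2 h2) index_ne_zero_of_finite
  obtain ⟨i, -, hi⟩ := (Nat.dvd_prime_pow hp.1).1 (hd ▸ dvd_mul_left d _ : d ∣ p ^ F)
  have h5 := ((inc P).range.subgroupOf (zpowers (t * g * t⁻¹))).index_dvd_card
  rw [Nat.card_zpowers, ord_conj] at h5
  obtain ⟨j, -, hj⟩ := (Nat.dvd_prime_pow hp.1).1 (h5.trans hg)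
  have h6 : (inc P).range.relIndex (zpowers (t * g * t⁻¹)) = p ^ j := hj
  rw [h3, h6, hi, Nat.pow_le_pow_iff_right hp.1.one_lt] at h4
  have h7 := ((inc P).range.subgroupOf (zpowers (t * g * t⁻¹))).pow_index_mem ⟨_, mem_zpowers _⟩
  rw [hj] at h7
  obtain ⟨c, hc⟩ := pow_dvd_pow p h4
  refine ⟨t, ?_⟩
  rw [← conj_pow, hi, hc, pow_mul]
  exact A.pow_mem (mem_inc.1 h7).1 c

/-- **Sims** -/
theorem sims {M : Type*} [Group M] [Finite M] {H : Subgroup M} (hc : IsCoatom H) (h0 : H.normalCore = ⊥) {b : ℕ}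
    (hH : Nat.card H = 2 ^ b * 3) (h2 : 2 ∣ H.index) : b ≤ 4 := by
  have : FaithfulSMul M (M ⧸ H) := ⟨fun {x y} e => by
    have h1 : Function.Injective (MulAction.toPermHom M (M ⧸ H)) := by
      rw [← MonoidHom.ker_eq_bot_iff, ← normalCore_eq_ker, h0]
    exact h1 (Equiv.ext e)⟩
  have : Nontrivial (M ⧸ H) := Finite.one_lt_card_iff_nontrivial.1 (one_lt_index_of_ne_top hc.1)
  have hs := MulAction.stabilizer_quotient H
  have hprim := (MulAction.isCoatom_stabilizer_iff_preprimitive M ((1 : M) : M ⧸ H)).1 (hs.symm ▸ hc)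
  obtain ⟨P⟩ : Nonempty (Sylow 2 H) := inferInstance
  obtain ⟨y, hy, hy'⟩ := SetLike.not_le_iff_exists.1 fun h => not_dvd_of_norm P h h2
  have h3 : (P : Subgroup H) ≤ MulAction.stabilizer H (y : M ⧸ H) := fun x hx => by
    refine (smul_mk_iff H x y).2 (mem_inc (P := P).1 ?_).1
    have := (mem_normalizer_iff.1 (inv_mem hy) x).1 (mem_inc.2 ⟨x.2, hx⟩)
    rwa [inv_inv] at this
  have h4 : (P : Subgroup H).index = 3 := by
    have h5 := (P : Subgroup H).card_mul_index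
    rw [card_syl P hH (by decide), hH] at h5
    exact Nat.eq_of_mul_eq_mul_left (by positivity) h5
  rcases (Nat.dvd_prime Nat.prime_three).1 (h4 ▸ index_dvd_of_le h3) with h5 | h5
  · have h6 := (S3683.result hprim ((1 : M) : M ⧸ H) (y : M ⧸ H) (fun e => hy' (by simpa using QuotientGroup.eq.1 e))
      fun g hg => (index_eq_one.1 h5).ge (mem_top (⟨g, hs.le hg⟩ : H))).1
    rw [hs.symm.trans h6, card_bot] at hH
    omega
  · obtain ⟨k, hk, e⟩ := S3385.result hprim ((1 : M) : M ⧸ H) (y : M ⧸ H) (by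
      rw [hs, Nat.card_coe_set_eq]
      exact (MulAction.index_stabilizer H (y : M ⧸ H)).symm.trans h5)
    rw [hs, hH] at e
    exact Nat.pow_right_injective le_rfl (Nat.eq_of_mul_eq_mul_right three_pos e) ▸ hk

end gen

variable {T : Type} [Group T] [Finite T] [IsSimpleGroup T] {A : Subgroup T} {Γ : Subgroup (MulAut T)} {p : ℕ}
  [hp : Fact p.Prime]

theorem norm_char (h : MI A Γ) (P : Sylow p A) (W : Subgroup P) [W.Characteristic] (h0 : W ≠ ⊥)
    (hN : (W.map (P : Subgroup A).subtype).Normal) : normalizer ((inc P).range : Set T) ≤ A := by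
  have h1 : Inv Γ (W.map (inc P)) := by
    rintro σ hσ _ ⟨w, hw, rfl⟩
    obtain ⟨a, ha⟩ := MulAction.exists_smul_eq A P (resAut h σ hσ • P)
    obtain ⟨v, hv, e⟩ := char_map (inc P) (inc_inj P) W ((MulAut.conj (a : T)⁻¹ * σ : MulAut T) : T →* T)
      (MulEquiv.injective _) (fun s => by
        have h2 : resAut h σ hσ s ∈ ((a • P : Sylow p A) : Subgroup A) := ha ▸ ⟨s, s.2, rfl⟩
        obtain ⟨x, hx, e⟩ := h2
        refine ⟨⟨x, hx⟩, ?_⟩
        have h3 : (a : T) * x * (a : T)⁻¹ = σ (inc P s) := congrArg Subtype.val e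
        show (x : T) = (a : T)⁻¹ * σ (inc P s) * (a : T)⁻¹⁻¹
        rw [← h3]
        group) hw
    obtain ⟨z, hz, e'⟩ := hN.conj_mem _ ⟨v, hv, rfl⟩ a
    refine ⟨z, hz, ?_⟩
    have h3 : inc P z = a * inc P v * (a : T)⁻¹ := congrArg Subtype.val e'
    have h4 : inc P v = (a : T)⁻¹ * σ (inc P w) * (a : T)⁻¹⁻¹ := e
    rw [h3, h4]
    group
  have h2 : W.map (inc P) ≤ A := by
    rintro _ ⟨w, -, rfl⟩
    exact w.1.2
  refine fun t ht => (mi_norm h h1 (fun e => h0 ((map_eq_bot_iff_of_injective _ (inc_inj P)).1 e))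
    fun e => h.ne_top (top_le_iff.1 (e ▸ h2))).le (mem_normalizer_fintype ?_)
  rintro _ ⟨w, hw, rfl⟩
  exact char_map (inc P) (inc_inj P) W (MulAut.conj t : T →* T) (MulEquiv.injective _)
    (fun s => (mem_normalizer_iff.1 ht _).1 ⟨s, rfl⟩) hw

theorem norm_of_normal (h : MI A Γ) (P : Sylow p A) (h0 : p ∣ Nat.card A) [hN : (P : Subgroup A).Normal] :
    normalizer ((inc P).range : Set T) ≤ A := by
  have : Nontrivial P := (P : Subgroup A).nontrivial_iff_ne_bot.2 (P.ne_bot_of_dvd_card h0)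
  refine norm_char h P ⊤ top_ne_bot ?_
  rwa [← MonoidHom.range_eq_map, range_subtype]

/-- **Thompson** -/
theorem not_pgroup (hn : ¬ IsMulCommutative T) (h : MI A Γ) (h2 : p ≠ 2) : ¬ IsPGroup p A := fun hA => by
  have : Nontrivial A := A.nontrivial_iff_ne_bot.2 h.ne_bot
  obtain ⟨P⟩ : Nonempty (Sylow p A) := inferInstance
  have h1 : (P : Subgroup A) = ⊤ := (P.is_maximal' (hA.to_subgroup ⊤) le_top).symm
  have : (P : Subgroup A).Normal := h1 ▸ inferInstance
  have h3 := not_dvd_of_norm P (norm_of_normal h P (hA.card_eq_or_dvd.resolve_left Finite.one_lt_card.ne'))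
  obtain ⟨K, hK, h4, h5⟩ := S3073.result p h2 A hA
  have h6 : K ≠ ⊥ := fun e => by
    rw [e, coe_bot, centralizer_eq_top_iff_subset.2 (by simp)] at h4
    exact top_ne_bot (le_bot_iff.1 h4)
  have h7 := mi_norm h (mi_char h K) (fun e => h6 ((map_eq_bot_iff_of_injective _ A.subtype_injective).1 e))
    fun e => h.ne_top (top_le_iff.1 (e ▸ map_subtype_le K))
  obtain ⟨S, N, hN, hc⟩ := (h5 T (hA.toSylow h3) (MulEquiv.refl A)).2 fun g hg hg' => by
    have h8 : g ∈ A := h7.le hg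
    obtain rfl : g = 1 := by_contra fun e => hp.1.coprime_iff_not_dvd.1 hg'.symm (dvd_ord hp.1 hA h8 e)
    exact one_mem _
  rcases hN.eq_bot_or_eq_top with rfl | rfl
  · exact SB.Red.not_pgroup inferInstance hn ((isComplement'_bot_left.1 hc ▸ S.isPGroup' :
      IsPGroup p (⊤ : Subgroup T)).of_equiv topEquiv)
  · exact S.ne_bot_of_dvd_card ((hA.card_eq_or_dvd.resolve_left Finite.one_lt_card.ne').trans
      (card_subgroup_dvd_card A)) (isComplement'_top_left.1 hc)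

theorem cent_le {G : Type*} [Group G] [Finite G] (hE : Ep G) (h0 : pCore p G ≠ ⊥) :
    centralizer (pCore p G : Set G) ≤ pCore p G :=
  have := Lib.Cores.pCore_characteristic (G := G) p
  Lib.Cores.le_pCore inferInstance (hE.cent_loc (Lib.Cores.pCore_isPGroup p) h0)

/-- **Stellmacher** -/
theorem two_free (h : MI A Γ) (hE : Ep A) (h0 : pCore 2 A ≠ ⊥) (h2 : 2 ∣ Nat.card A) (h3 : ¬ 3 ∣ Nat.card A) :
    ¬ 2 ∣ A.index := by
  obtain ⟨P⟩ : Nonempty (Sylow 2 A) := inferInstance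
  have : Nontrivial P := (P : Subgroup A).nontrivial_iff_ne_bot.2 (P.ne_bot_of_dvd_card h2)
  obtain ⟨W, h4, h5, h6⟩ := S0665.result P.isPGroup'
  refine not_dvd_of_norm P (norm_char h P W h4 (h6 A _ (P : Subgroup A).subtype_injective ⟨P, (range_subtype _).symm⟩ ?_
    (cent_le hE h0)))
  rintro ⟨K, R, hR, ⟨e⟩⟩
  have h7 := (card_quotient_dvd_card (R.subgroupOf K)).trans (card_subgroup_dvd_card K)
  rw [Nat.card_congr e.toEquiv, Nat.card_perm, Nat.card_fin] at h7
  exact h3 (Nat.dvd_trans (by decide) h7)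

theorem conj_inj (hn : ¬ IsMulCommutative T) : Function.Injective (MulAut.conj : T →* MulAut T) := by
  rw [← MonoidHom.ker_eq_bot_iff]
  refine (MonoidHom.normal_ker _).eq_bot_or_eq_top.resolve_right fun e => hn ⟨⟨fun a b => ?_⟩⟩
  exact mul_inv_eq_iff_eq_mul.1 (MulEquiv.congr_fun (MonoidHom.mem_ker.1 (e.ge (mem_top a))) b)

/-- **Sims** for `A` -/
theorem sims_mi (hn : ¬ IsMulCommutative T) (ho : (Inn T).index ≤ 2) (h : MI A Γ) {a : ℕ}
    (hA : Nat.card A = 2 ^ a * 3) (h2 : 2 ∣ A.index) : a ≤ 4 := by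
  have hI : (Inn T).Normal := ⟨by
    rintro _ ⟨t, rfl⟩ σ
    exact ⟨σ t, by ext x; simp⟩⟩
  have hcov := mi_covBy h
  have c1 : Nat.card ((Inn T).subgroupOf Γ) = Nat.card A := by
    symm
    refine Nat.card_congr (Equiv.ofBijective (fun x => ⟨⟨MulAut.conj x.1, (h.conj _).2 x.2⟩, x.1, rfl⟩) ⟨fun x y e =>
      Subtype.ext (conj_inj hn (congrArg (fun z => z.1.1) e)), ?_⟩)
    rintro ⟨⟨σ, hσ⟩, t, rfl : MulAut.conj t = σ⟩
    exact ⟨⟨t, (h.conj t).1 hσ⟩, rfl⟩
  have c2 := ((Inn T).subgroupOf Γ).card_mul_index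
  have c3 := ((Inn T).subgroupOf (Inn T ⊔ Γ)).card_mul_index
  have c4 : ((Inn T).subgroupOf (Inn T ⊔ Γ)).index = ((Inn T).subgroupOf Γ).index := relIndex_sup_left Γ (Inn T)
  have c5 := (Γ.subgroupOf (Inn T ⊔ Γ)).card_mul_index
  have c6 : Nat.card (Γ.subgroupOf (Inn T ⊔ Γ)) = Nat.card Γ := Nat.card_congr (subgroupOfEquivOfLe le_sup_right).toEquiv
  have c7 : ((Inn T).subgroupOf Γ).index ≤ 2 :=
    (relIndex_le_of_le_right le_top index_ne_zero_of_finite).trans ((relIndex_top_right _).le.trans ho)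
  have c8 : ((Inn T).subgroupOf Γ).index ≠ 0 := index_ne_zero_of_finite
  rw [Nat.card_congr (subgroupOfEquivOfLe le_sup_left).toEquiv,
    ← Nat.card_congr (MonoidHom.ofInjective (conj_inj hn)).toEquiv, c4, ← A.card_mul_index] at c3
  rw [c1] at c2
  have c9 : (Γ.subgroupOf (Inn T ⊔ Γ)).index = A.index := by
    rw [c6, ← c2, ← c3, mul_right_comm _ A.index] at c5
    exact Nat.eq_of_mul_eq_mul_left (Nat.mul_pos Nat.card_pos (Nat.pos_of_ne_zero c8)) c5
  have hc : IsCoatom (Γ.subgroupOf (Inn T ⊔ Γ)) := by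
    refine ⟨fun e => hcov.1.not_ge (subgroupOf_eq_top.1 e), fun K hK => ?_⟩
    have k1 : Γ < K.map (Inn T ⊔ Γ).subtype := by
      conv_lhs => rw [← map_subgroupOf_eq_of_le (le_sup_right : Γ ≤ Inn T ⊔ Γ)]
      exact (map_lt_map_iff_of_injective (subtype_injective _)).2 hK
    have k2 := (map_subtype_le K).eq_or_lt.resolve_right (hcov.2 k1)
    exact map_injective (subtype_injective _) (by rw [k2, ← MonoidHom.range_eq_map, range_subtype])
  have h0 : (Γ.subgroupOf (Inn T ⊔ Γ)).normalCore = ⊥ := by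
    let ι : T →* ↥(Inn T ⊔ Γ) := (MulAut.conj : T →* MulAut T).codRestrict _ fun t => mem_sup_left ⟨t, rfl⟩
    have k1 : (Γ.subgroupOf (Inn T ⊔ Γ)).normalCore.comap ι = ⊥ :=
      (Normal.comap inferInstance ι).eq_bot_or_eq_top.resolve_right fun e => h.ne_top (eq_top_iff.2 fun t _ =>
        (h.conj t).1 (normalCore_le _ (e.ge (mem_top t)) :))
    refine eq_bot_iff.2 fun σ hσ => Subtype.ext (MulEquiv.ext fun t => ?_)
    have k2 : t * (σ.1 t)⁻¹ ∈ (Γ.subgroupOf (Inn T ⊔ Γ)).normalCore.comap ι := by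
      have k3 : ι (t * (σ.1 t)⁻¹) = ι t * σ * (ι t)⁻¹ * σ⁻¹ := Subtype.ext (MulEquiv.ext fun x => by simp [ι, mul_assoc])
      rw [mem_comap, k3]
      exact mul_mem (Normal.conj_mem inferInstance σ hσ _) (inv_mem hσ)
    rw [k1, mem_bot, mul_inv_eq_one] at k2
    exact k2.symm
  rw [← c6, hA] at c2
  obtain e | e : ((Inn T).subgroupOf Γ).index = 1 ∨ ((Inn T).subgroupOf Γ).index = 2 := by omega
  · exact sims hc h0 (by rw [← c2, e, mul_one]) (c9 ▸ h2)
  · exact (Nat.le_succ a).trans (sims hc h0 (by rw [← c2, e, pow_succ, mul_right_comm]) (c9 ▸ h2))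

/-- **fusion in a normal abelian Sylow subgroup** -/
theorem card_fus (h : MI A Γ) (P : Sylow p A) [(P : Subgroup A).Normal] (hP : IsMulCommutative P) {a : A}
    (ha : orderOf a = p) (X : A → Prop) (hX : ∀ b, X b → orderOf b = p ∧ ∃ k : ℕ, IsConj ((a : T) ^ k) b) :
    Nat.card {b // X b} ≤ (p - 1) * (P : Subgroup A).index := by
  have h0 : p ∣ Nat.card A := ha ▸ orderOf_dvd_natCard a
  have hN := norm_of_normal h P h0
  have h1 : ¬ p ∣ (inc P).range.index := by
    have h2 : (inc P).range = (P : Subgroup A).map A.subtype := by rw [inc, MonoidHom.range_comp, range_subtype]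
    rw [h2, index_map_subtype]
    exact fun k => (hp.1.dvd_mul.1 k).elim P.not_dvd_index (not_dvd_of_norm P hN)
  have : IsMulCommutative ((pg_inc P).toSylow h1) := ⟨⟨by
    rintro ⟨_, x, rfl⟩ ⟨_, y, rfl⟩
    exact Subtype.ext (by
      show inc P x * inc P y = inc P y * inc P x
      rw [← map_mul, hP.is_comm.comm, map_mul])⟩⟩
  have := Sylow.unique_of_normal P inferInstance
  have h2 : ∀ b : A, orderOf b = p → b ∈ (P : Subgroup A) := fun b hb => by
    obtain ⟨Q, hQ⟩ := (IsPGroup.of_card (G := zpowers b) (n := 1) (by rw [Nat.card_zpowers, hb, pow_one])).exists_le_sylow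
    exact Subsingleton.elim Q P ▸ hQ (mem_zpowers b)
  have h3 : ∀ b : {b // X b}, ∃ z : Fin (p - 1) × (A ⧸ (P : Subgroup A)), z.2.out * a ^ (z.1.1 + 1) * z.2.out⁻¹ = b := by
    rintro ⟨b, hb⟩
    obtain ⟨h4, k, hk⟩ := hX b hb
    obtain ⟨c, hc⟩ := isConj_iff.1 hk
    obtain ⟨n, hn, e⟩ := ((pg_inc P).toSylow h1).conj_eq_normalizer_conj_of_mem ((a : T) ^ k) c⁻¹
      (mem_inc.2 ⟨pow_mem a.2 k, pow_mem (h2 a ha) k⟩) (by rw [inv_inv, hc]; exact mem_inc.2 ⟨b.2, h2 b h4⟩)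
    rw [inv_inv, hc] at e
    have h5 : b = (⟨n, hN hn⟩ : A)⁻¹ * a ^ k * ⟨n, hN hn⟩ := Subtype.ext e
    have h6 : k % p ≠ 0 := fun h6 => hp.1.one_lt.ne' (by
      rw [← h4, h5, ← pow_mod_orderOf, ha, h6]
      simp)
    have h7 := Nat.mod_lt k hp.1.pos
    obtain ⟨s, hs⟩ := QuotientGroup.mk_out_eq_mul (P : Subgroup A) (⟨n, hN hn⟩ : A)⁻¹
    refine ⟨(⟨k % p - 1, by omega⟩, ((⟨n, hN hn⟩ : A)⁻¹ : A)), ?_⟩
    have h8 : (s : A) * a ^ k = a ^ k * s := congrArg Subtype.val (hP.is_comm.comm s ⟨_, pow_mem (h2 a ha) k⟩)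
    have h9 : a ^ (k % p) = a ^ k := by rw [← ha, pow_mod_orderOf]
    show _ * a ^ (k % p - 1 + 1) * _ = b
    rw [hs, Nat.sub_add_cancel (Nat.pos_of_ne_zero h6), h9, h5, mul_assoc _ (s : A), h8]
    group
  choose f hf using h3
  refine (Nat.card_le_card_of_injective f fun x y e => Subtype.ext (by rw [← hf, e, hf])).trans ?_
  rw [Nat.card_prod, Nat.card_fin, index]

/-- a self-centralising subgroup of order four -/
theorem four (h : MI A Γ) (hE : Ep A) (h4 : Nat.card (pCore 2 A) = 4) {F u : ℕ} (hT : Nat.card T = 2 ^ F * u)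
    (hu : ¬ 2 ∣ u) (hF : 3 ≤ F) : ∃ g : T, orderOf g * 2 = 2 ^ F := by
  have := Lib.Cores.pCore_characteristic (G := A) 2
  have h0 : pCore 2 A ≠ ⊥ := fun e => by rw [e, card_bot] at h4; omega
  have hQ := (Lib.Cores.pCore_isPGroup (G := A) 2).map A.subtype
  have h1 := mi_norm h (mi_char h (pCore 2 A))
    (fun e => h0 ((map_eq_bot_iff_of_injective _ A.subtype_injective).1 e))
    fun e => h.ne_top (top_le_iff.1 (e ▸ map_subtype_le _))
  obtain ⟨S, hS⟩ := hQ.exists_le_sylow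
  have h2 : Nat.card (((pCore 2 A).map A.subtype).subgroupOf S) = 2 ^ 2 := by
    rw [Nat.card_congr (subgroupOfEquivOfLe hS).toEquiv, card_map_of_injective A.subtype_injective, h4]
    rfl
  have h3 := S0112.result F (card_syl S hT hu) _ h2 (le_antisymm (fun x hx => by
    have h5 : (x : T) ∈ centralizer ((pCore 2 A).map A.subtype : Set T) := mem_centralizer_iff.2 fun y hy =>
      congrArg Subtype.val (mem_centralizer_iff.1 hx ⟨y, hS hy⟩ hy)
    exact ⟨⟨x, h1.le (centralizer_le_normalizer _ h5)⟩, cent_le hE h0 (mem_centralizer_iff.2 fun y hy =>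
      Subtype.ext (mem_centralizer_iff.1 h5 y ⟨y, hy, rfl⟩)), rfl⟩) fun x hx => mem_centralizer_iff.2 fun y hy =>
    congrArg Subtype.val ((IsPGroup.commGroupOfCardEqPrimeSq h2).mul_comm ⟨y, hy⟩ ⟨x, hx⟩))
  obtain ⟨C, hC, h5⟩ := S0113.result F hF (card_syl S hT hu) h3
  obtain ⟨g, hg⟩ := hC.exists_ofOrder_eq_natCard
  exact ⟨g, by rw [orderOf_coe, orderOf_coe, hg, ← card_syl S hT hu, ← C.card_mul_index, h5]⟩

end Cfsg.Agent.N2.Sp2
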