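import Cfsg.Agent.N2.Sp2.Chk
import Cfsg.Agent.N2.Sp.GM11
import Cfsg.Agent.N2.Sp.GM12
import Cfsg.Agent.N2.Sp.GM22
import Cfsg.Agent.N2.Sp.GM23
import Cfsg.Agent.N2.Sp.GM24
import Cfsg.Agent.N2.Sp.GJ1
import Cfsg.Agent.N2.Sp.GJ3
import Cfsg.Agent.N2.Sp.GHS
import Cfsg.Agent.N2.Sp.GTh
import Cfsg.Agent.N2.Sp.GON
import Cfsg.Agent.N2.Sp.GRu
import Cfsg.Agent.N2.Sp.GHe
import Cfsg.Agent.N2.Sp.GTits
import Cfsg.Agent.N2.SpK.RA
import Cfsg.Agent.N2.SpK.RB
import Cfsg.Agent.N2.SpK.HS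
import Cfsg.Agent.H621.Deg.Split

/-!
# N2 (S3519), the rows of the sporadic groups whose bad subgroups have elements of prime power order (helper44)
-/

set_option autoImplicit false
set_option Elab.async false

namespace Cfsg.Agent.N2.Sp2

open Cfsg Cfsg.Agent.FP3 Cfsg.Agent.TAB.Eng Cfsg.Agent.TAB.Use Cfsg.Agent.N2.Sp Cfsg.Agent.N2.SpK

theorem okM11 : chk Sp.M11.D Sp.M11.R Sp.M11.nu Sp.M11.O 20 [(2, 4), (3, 2)] []
    [] = true := by decide +kernel

theorem okM12 : chk Sp.M12.D Sp.M12.R Sp.M12.nu Sp.M12.O 285 [(2, 6), (3, 3), (5, 1)] []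
    [] = true := by decide +kernel

theorem okM22 : chk Sp.M22.D Sp.M22.R Sp.M22.nu Sp.M22.O 425 [(2, 7), (3, 2)] []
    [] = true := by decide +kernel

theorem okM23 : chk Sp.M23.D Sp.M23.R Sp.M23.nu Sp.M23.O 129 [(2, 7), (3, 2)] []
    [] = true := by decide +kernel

theorem okM24 : chk Sp.M24.D Sp.M24.R Sp.M24.nu Sp.M24.O 1911 [(2, 10), (3, 3)] []
    [] = true := by decide +kernel

theorem okJ1 : chk Sp.J1.D Sp.J1.R Sp.J1.nu Sp.J1.O 287 [(2, 3), (3, 1), (5, 1)] []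
    [] = true := by decide +kernel

theorem okJ3 : chk Sp.J3.D Sp.J3.R Sp.J3.nu Sp.J3.O 1587 [(2, 7), (3, 5)] []
    [] = true := by decide +kernel

theorem okHS : chk Sp.HS.D Sp.HS.R Sp.HS.nu Sp.HS.O 2143 [(2, 9), (3, 2), (5, 3)] [60, 360, 720, 960]
    [(120, .br 1 2 0 (.br 2 2 0 .kl (.br 4 2 0 .kl (.lf [(1, 0), (1, 1), (1, 4)]))) (.br 2 2 0 (.pw 4 2 .kl) (.lf
    [(1, 0), (1, 1), (1, 3)]))), (1920, .lf [(16, 2), (2, 23), (1, 26)])] = true := by decide +kernel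

theorem okTh : chk Sp.Th.D Sp.Th.R Sp.Th.nu Sp.Th.O 621715 [(2, 15), (3, 10)] []
    [] = true := by decide +kernel

theorem okON : chk Sp.ON.D Sp.ON.R Sp.ON.nu Sp.ON.O 10352 [(2, 9), (3, 4), (7, 3)] []
    [(2268, .br 1 2 0 .kl (.lf [(256, 0), (128, 2), (22, 4), (2, 5), (1, 9)]))] = true := by decide +kernel

theorem okRu : chk Sp.Ru.D Sp.Ru.R Sp.Ru.nu Sp.Ru.O 53406 [(2, 14), (3, 3), (5, 3)] []
    [(15360, .lf [(21, 0), (693, 2), (1029, 4), (21, 12), (9, 19), (63, 27), (8, 33)]), (30720, .lf [(64320, 2),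
    (3600, 24), (720, 26), (1545, 27), (824, 32)]), (46080, .lf [(41802, 4), (3120, 9), (2148, 16), (878, 17), (1776,
    20), (740, 26), (2068, 27), (2477, 31)])] = true := by decide +kernel

theorem okHe : chk Sp.He.D Sp.He.R Sp.He.nu Sp.He.O 14803 [(2, 10), (3, 3), (5, 2), (7, 3)] []
    [(504, .br 1 2 0 (.br 10 7 2 (.br 4 3 3 (.mo 2 15 (6) (4) (.lf [(1, 0), (336, 4), (672, 6), (224, 10)])) (.lf
    [(15, 0), (8, 4), (14, 6), (6, 9), (1, 12)])) (.br 4 3 3 (.br 11 7 1 (.mo 2 15 (6) (-3) (.lf [(1, 0), (672, 7),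
    (168, 12)])) (.lf [(1, 0), (1, 2), (1, 11)])) (.lf [(30, 0), (14, 1), (42, 3), (30, 6), (2, 10), (1, 29)]))) (.br
    2 2 0 (.br 4 3 3 (.br 10 7 2 (.mo 2 15 (22) (4) (.lf [(1, 0), (1232, 4), (672, 7), (224, 11)])) (.br 11 7 1 (.mo
    2 15 (22) (-3) (.lf [(1, 0), (672, 8), (168, 13)])) (.lf [(1, 0), (1, 1), (1, 12)]))) (.lf [(42, 0), (70, 2),
    (42, 6), (1, 28)])) (.lf [(1, 0), (1, 1), (1, 3)]))), (6048, .br 1 2 0 (.pw 5 2 (.br 10 7 1 (.lf [(48, 2), (48,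
    4), (14, 8), (1, 32), (8, 33)]) (.lf [(406, 0), (274, 9), (24, 17), (5, 27), (5, 28)]))) (.br 2 2 0 (.lf [(176,
    1), (1, 3), (7, 4), (1, 22), (1, 24)]) (.lf [(192, 0), (10944, 1), (276, 3), (336, 4), (42, 8), (48, 24), (14,
    31), (21, 32)])))] = true := by decide +kernel

theorem okTits : chk Sp.Tits.D Sp.Tits.R Sp.Tits.nu Sp.Tits.O 2880 [(2, 11), (3, 3), (5, 2)] []
    [] = true := by decide +kernel

variable {K : Type} [Group K] [Finite K] [IsSimpleGroup K]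

/-- the assembly -/
theorem card_mem {D : Dat} {R : Rows} {M : List (ℕ × ℕ)} {ν : List ℕ} {O : Sp.Out} {U : ℕ} {PL : List (ℕ × ℕ)}
    {RES : List ℕ} {CT : List (ℕ × Tr)} (hn : ¬ IsMulCommutative K) (hK : Lie.IsoTits K ∨ IsSporadicGroup K)
    (h : InK K D R M) (hz : okZ D = true) (hk : okK D M ν = true)
    (hr : ∀ {T : TD K D} {A : Subgroup K}, Hy T R ν → ¬ Good A → A ≠ ⊤ → Res T A O U)
    (hc : chk D R ν O U PL RES CT = true) {A : Subgroup K} {Γ : Subgroup (MulAut K)} (hm : MI A Γ) (hb : ¬ Good A) :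
    Nat.card A ∈ RES := by
  obtain ⟨T, H, hU, -⟩ := hy_of h hz hk
  exact main H hU hn (H621.Deg.index_le_two (.inr hK)) hm hb (hr H hb hm.ne_top) hc

theorem row_M11 (hn : ¬ IsMulCommutative K) (h : Spor.IsoM11 K) : ASRow K := fun _ _ hm => by_contra fun hb =>
  List.not_mem_nil (card_mem hn (.inr (.inl h)) (inK_m11 h) Sp.M11.okz
    (by decide +kernel) Sp.M11.res okM11 hm hb)

theorem row_M12 (hn : ¬ IsMulCommutative K) (h : Spor.IsoM12 K) : ASRow K := fun _ _ hm => by_contra fun hb =>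
  List.not_mem_nil (card_mem hn (.inr (by simp only [IsSporadicGroup, h, true_or, or_true])) (inK_m12 h) Sp.M12.okz
    (by decide +kernel) Sp.M12.res okM12 hm hb)

theorem row_M22 (hn : ¬ IsMulCommutative K) (h : Spor.IsoM22 K) : ASRow K := fun _ _ hm => by_contra fun hb =>
  List.not_mem_nil (card_mem hn (.inr (by simp only [IsSporadicGroup, h, true_or, or_true])) (inK_m22 h) Sp.M22.okz
    (by decide +kernel) Sp.M22.res okM22 hm hb)

theorem row_M23 (hn : ¬ IsMulCommutative K) (h : Spor.IsoM23 K) : ASRow K := fun _ _ hm => by_contra fun hb =>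
  List.not_mem_nil (card_mem hn (.inr (by simp only [IsSporadicGroup, h, true_or, or_true])) (inK_m23 h) Sp.M23.okz
    (by decide +kernel) Sp.M23.res okM23 hm hb)

theorem row_M24 (hn : ¬ IsMulCommutative K) (h : Spor.IsoM24 K) : ASRow K := fun _ _ hm => by_contra fun hb =>
  List.not_mem_nil (card_mem hn (.inr (by simp only [IsSporadicGroup, h, true_or, or_true])) (inK_m24 h) Sp.M24.okz
    (by decide +kernel) Sp.M24.res okM24 hm hb)

theorem row_J1 (hn : ¬ IsMulCommutative K) (h : Spor.IsoJ1 K) : ASRow K := fun _ _ hm => by_contra fun hb =>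
  List.not_mem_nil (card_mem hn (.inr (by simp only [IsSporadicGroup, h, true_or, or_true])) (inK_j1 h) Sp.J1.okz
    (by decide +kernel) Sp.J1.res okJ1 hm hb)

theorem row_J3 (hn : ¬ IsMulCommutative K) (h : Spor.IsoJ3 K) : ASRow K := fun _ _ hm => by_contra fun hb =>
  List.not_mem_nil (card_mem hn (.inr (by simp only [IsSporadicGroup, h, true_or, or_true])) (inK_j3 h) Sp.J3.okz
    (by decide +kernel) Sp.J3.res okJ3 hm hb)

theorem row_Th (hn : ¬ IsMulCommutative K) (h : Spor.IsoTh K) : ASRow K := fun _ _ hm => by_contra fun hb =>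
  List.not_mem_nil (card_mem hn (.inr (by simp only [IsSporadicGroup, h, true_or, or_true])) (inK_th h) Sp.Th.okz
    (by decide +kernel) Sp.Th.res okTh hm hb)

theorem row_ON (hn : ¬ IsMulCommutative K) (h : Spor.IsoON K) : ASRow K := fun _ _ hm => by_contra fun hb =>
  List.not_mem_nil (card_mem hn (.inr (by simp only [IsSporadicGroup, h, true_or, or_true])) (inK_on h) Sp.ON.okz
    (by decide +kernel) Sp.ON.res okON hm hb)

theorem row_Ru (hn : ¬ IsMulCommutative K) (h : Spor.IsoRu K) : ASRow K := fun _ _ hm => by_contra fun hb =>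
  List.not_mem_nil (card_mem hn (.inr (by simp only [IsSporadicGroup, h, true_or, or_true])) (inK_ru h) Sp.Ru.okz
    (by decide +kernel) Sp.Ru.res okRu hm hb)

theorem row_He (hn : ¬ IsMulCommutative K) (h : Spor.IsoHe K) : ASRow K := fun _ _ hm => by_contra fun hb =>
  List.not_mem_nil (card_mem hn (.inr (by simp only [IsSporadicGroup, h, true_or, or_true])) (inK_he h) Sp.He.okz
    (by decide +kernel) Sp.He.res okHe hm hb)

theorem card_HS (hn : ¬ IsMulCommutative K) (h : Spor.IsoHS K) {A : Subgroup K} {Γ : Subgroup (MulAut K)} (hm : MI A Γ)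
    (hb : ¬ Good A) : Nat.card A ∈ [60, 360, 720, 960] :=
  card_mem hn (.inr (by simp only [IsSporadicGroup, h, true_or, or_true])) (inK_hs h) Sp.HS.okz (by decide +kernel)
    Sp.HS.res okHS hm hb

theorem row_Tits_of (hn : ¬ IsMulCommutative K) (h : Lie.IsoTits K) {M : List (ℕ × ℕ)} (hK : InK K Sp.Tits.D Sp.Tits.R M)
    (hk : okK Sp.Tits.D M Sp.Tits.nu = true) : ASRow K := fun _ _ hm => by_contra fun hb =>
  List.not_mem_nil (card_mem hn (.inl h) hK Sp.Tits.okz hk Sp.Tits.res okTits hm hb)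

end Cfsg.Agent.N2.Sp2
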