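import Cfsg.Agent.N2.Sp2.Mi
import Cfsg.Agent.N2.Sp.Eng

/-!
# N2 (S3519), sporadic groups: orders of bad subgroups with elements of prime power order, the rules (helper44)
-/

set_option autoImplicit false
set_option linter.unusedSectionVars false

namespace Cfsg.Agent.N2.Sp2

open Cfsg Cfsg.Agent.FP3 Cfsg.Agent.TAB.Eng Cfsg.Agent.TAB.Use Cfsg.Agent.SB.SporL Cfsg.Agent.TH.Spor Cfsg.Agent.N2.Sp
open Subgroup

/-- the data of a prime: `p ^ F` is the part of the group order, `n = q m`, `k m` is the number of `p`-elements -/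
structure Pd where
  p : ℕ
  F : ℕ
  q : ℕ
  m : ℕ
  k : ℕ

/-- the meaning of the data -/
structure Ok (D : Dat) (n : ℕ) (x : Pd) : Prop where
  hp : x.p.Prime
  hN : ∃ u, D.N = x.p ^ x.F * u ∧ ¬ x.p ∣ u
  hq : ∃ a ≤ x.F, x.q = x.p ^ a
  hn : n = x.q * x.m
  hm : ¬ x.p ∣ x.m
  hk : x.k < x.q
  hk' : x.q ∣ x.k * x.m + 1

/-- the type `t` may have `k n / q` elements -/
noncomputable def al (D : Dat) (ν : List ℕ) (n q k t : ℕ) : Bool :=
  Nat.blt D.N ((D.N * k / (q * ntd ν 0 t)) ^ 3 * n)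

/-- the allowed types of `p`-elements -/
noncomputable def AL (D : Dat) (ν S : List ℕ) (n : ℕ) (x : Pd) : List ℕ :=
  S.filter fun t => D.ord t % x.p == 0 && al D ν n x.q x.k t

/-- the Sylow subgroup is abelian -/
noncomputable def ab (D : Dat) (ν S : List ℕ) (n : ℕ) (x : Pd) : Bool :=
  x.p ^ 2 % x.q == 0 || (x.p == 2 && (AL D ν S n x).all fun t => D.ord t == 2)

noncomputable def r3 (D : Dat) (ν S : List ℕ) (n : ℕ) (x : Pd) : Bool := (AL D ν S n x).all fun t => D.ord t != x.p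

noncomputable def r4 (D : Dat) (ν S : List ℕ) (n : ℕ) (x : Pd) : Bool :=
  (List.range D.n).any fun i => Nat.blt 0 (D.cnt i) && x.p ^ x.F % D.ord i == 0 &&
    D.ord (D.pwf i (x.p ^ x.F / x.q)) != 1 && (AL D ν S n x).all fun t => t != D.pwf i (x.p ^ x.F / x.q)

def r6 (x : Pd) : Bool := Nat.blt (x.k * x.m + 1) x.q || (x.k * x.m + 1 == x.q && x.q != x.p ^ x.F)

noncomputable def r7 (D : Dat) (ν S : List ℕ) (n : ℕ) (L : List Pd) (x : Pd) : Bool :=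
  ab D ν S n x && ((x.q - 1) % x.k != 0 || x.m % ((x.q - 1) / x.k) != 0 ||
    (x.p != 2 && (x.q - 1) / x.k % 2 == 0 && L.any fun y => y.p != 2 && y.p != x.p && (x.q - 1) / x.k % y.p == 0))

def r10 (n : ℕ) (x : Pd) : Bool := n == x.q && x.p != 2

noncomputable def r11 (D : Dat) (ν S : List ℕ) (n : ℕ) (x : Pd) : Bool :=
  x.k * x.m + 1 == x.q && (ab D ν S n x || (x.p != 2 && n % 2 == 0)) &&
    S.all fun t => D.ord t != x.p || !al D ν n x.q (x.p - 1) t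

def r12 (x : Pd) : Bool := x.p == 2 && x.m == 3 && x.q != x.p ^ x.F && Nat.blt 16 x.q

/-- the group is not `p`-local -/
noncomputable def loc (D : Dat) (ν S : List ℕ) (n : ℕ) (L : List Pd) (x : Pd) : Bool :=
  x.q == 1 || ((List.range x.F).all fun j => x.q % x.p ^ (j + 1) != 0 || (x.p ^ (j + 1) - 1) % x.m != 0 ||
    (x.p == 2 && j == 1 && Nat.ble 3 x.F && (List.range D.n).all fun i => D.ord i * 2 != 2 ^ x.F)) ||
  (L.any fun y => y.p != 2 && y.p != x.p && y.q != 1 && (AL D ν S n y).all fun t => D.ord t != y.q) ||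
  (x.p != 2 && n % 2 == 0 && x.k * x.m + 1 != x.q) || (x.p == 2 && n % 3 != 0 && x.q != x.p ^ x.F)

variable {K : Type} [Group K] [Finite K] [IsSimpleGroup K] {D : Dat} {T : TD K D} {R : Rows} {ν S : List ℕ}
  {A : Subgroup K} {Γ : Subgroup (MulAut K)} {x : Pd} {L : List Pd}

/-- the situation -/
structure Cx (T : TD K D) (R : Rows) (ν : List ℕ) (A : Subgroup K) (Γ : Subgroup (MulAut K)) (S : List ℕ) : Prop where
  hy : Hy T R ν
  unif : Unif T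
  hn : ¬ IsMulCommutative K
  out : (Inn K).index ≤ 2
  mi : MI A Γ
  bad : ¬ Good A
  ep : Ep A
  sup : Sup T A S
  pos : ∀ t ∈ S, 0 < ntd ν 0 t

theorem Ok.np (h : Ok D (Nat.card A) x) (hE : Ep A) : np A x.p = x.k * x.m := by
  obtain ⟨a, -, e⟩ := h.hq
  exact hE.np_eq h.hp (e ▸ h.hn) h.hm (e ▸ h.hk) (e ▸ h.hk')

theorem Ok.syl (h : Ok D (Nat.card A) x) [Fact x.p.Prime] (P : Sylow x.p A) : Nat.card P = x.q := by
  obtain ⟨a, -, e⟩ := h.hq
  exact e ▸ card_syl P (e ▸ h.hn) h.hm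

theorem Ok.dvd (h : Ok D (Nat.card A) x) (h1 : x.q ≠ 1) : x.p ∣ Nat.card A := by
  obtain ⟨a, -, e⟩ := h.hq
  rw [h.hn, e]
  exact (dvd_pow_self _ fun h2 => h1 (by rw [e, h2, pow_zero])).mul_right _

theorem Ok.full (h : Ok D (Nat.card A) x) (hm : T.Mass) (h1 : ¬ x.p ∣ A.index) : x.q = x.p ^ x.F := by
  have := Fact.mk h.hp
  obtain ⟨P⟩ : Nonempty (Sylow x.p K) := inferInstance
  obtain ⟨a, -, e⟩ := h.hq
  obtain ⟨u, h2, h3⟩ := h.hN
  rw [← card_syl P (hm.1.trans h2) h3, e]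
  exact (card_syl P (by rw [← A.card_mul_index, h.hn, e, mul_assoc]) fun k => (h.hp.dvd_mul.1 k).elim h.hm h1).symm

theorem num_le_np {p t : ℕ} (h : p ∣ D.ord t) : num T A t ≤ np A p :=
  Nat.card_le_card_of_injective (β := {a : A // p ∣ orderOf a}) (fun s => ⟨s.1, by
    rw [← orderOf_coe, T.ord, s.2]; exact h⟩) fun _ _ e => Subtype.ext (congrArg Subtype.val e :)

theorem Cx.mem (C : Cx T R ν A Γ S) {a : K} (ha : a ∈ A) (h1 : a ≠ 1) : T.ty a ∈ S :=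
  (C.sup a ha).resolve_left fun e => h1 ((C.hy.zero a).1 e)

theorem Cx.al (C : Cx T R ν A Γ S) {a : K} (ha : a ∈ A) (h1 : a ≠ 1) {q m k : ℕ} (hn : Nat.card A = q * m)
    (hk : num T A (T.ty a) ≤ k * m) : al D ν (Nat.card A) q k (T.ty a) = true := by
  rw [Sp2.al, Nat.blt_eq]
  by_contra h
  have h0 : 0 < q * m := hn ▸ Nat.card_pos
  refine C.bad (good_of_le ha ((Nat.le_div_iff_mul_le (Nat.mul_pos (Nat.pos_of_mul_pos_right h0)
    (C.pos _ (C.mem ha h1)))).2 ?_) (C.hy.mass.1.symm ▸ not_lt.1 h :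
      (D.N * k / (q * ntd ν 0 (T.ty a))) ^ 3 * Nat.card A ≤ Nat.card K))
  refine Nat.le_of_mul_le_mul_right ?_ (Nat.pos_of_mul_pos_left h0)
  have h2 := (C.hy.den A a).trans (Nat.mul_le_mul_left _ hk)
  rw [hn] at h2
  calc _ = fx A a * (q * m) * ntd ν 0 (T.ty a) := by ring
    _ ≤ _ := h2
    _ = _ := by ring

theorem ne_one_of {p : ℕ} (hp : p.Prime) {a : K} (h : p ∣ orderOf a) : a ≠ 1 := fun e =>
  hp.one_lt.ne' (Nat.dvd_one.1 (by simpa [e] using h))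

theorem Cx.AL (C : Cx T R ν A Γ S) (h : Ok D (Nat.card A) x) {a : K} (ha : a ∈ A) (h1 : x.p ∣ orderOf a) :
    T.ty a ∈ AL D ν S (Nat.card A) x := by
  have h2 := ne_one_of h.hp h1
  rw [T.ord] at h1
  refine List.mem_filter.2 ⟨C.mem ha h2, ?_⟩
  rw [C.al ha h2 h.hn ((num_le_np h1).trans (h.np C.ep).le), Nat.mod_eq_zero_of_dvd h1]
  rfl

theorem Cx.ab (C : Cx T R ν A Γ S) (h : Ok D (Nat.card A) x) [Fact x.p.Prime] (P : Sylow x.p A)
    (h1 : ab D ν S (Nat.card A) x = true) : IsMulCommutative P := by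
  simp only [Sp2.ab, Bool.or_eq_true, Bool.and_eq_true, beq_iff_eq, List.all_eq_true] at h1
  rcases h1 with h1 | ⟨h1, h2⟩
  · exact ab_of_sq P (h.syl P ▸ Nat.dvd_of_mod_eq_zero h1)
  · refine ab_of_two _ fun a ha => ?_
    by_cases h3 : a = 1
    · rw [h3, mul_one]
    · have h4 := h2 _ (C.AL h a.2 (by rw [orderOf_coe]; exact dvd_ord h.hp P.isPGroup' ha h3))
      rw [← T.ord, orderOf_coe] at h4
      rw [← pow_two, ← h4, pow_orderOf_eq_one]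

theorem Cx.r3 (C : Cx T R ν A Γ S) (h : Ok D (Nat.card A) x) (h0 : x.q ≠ 1) : r3 D ν S (Nat.card A) x ≠ true := by
  intro h1
  have := Fact.mk h.hp
  obtain ⟨a, ha⟩ := exists_prime_orderOf_dvd_card' x.p (h.dvd h0)
  rw [← orderOf_coe] at ha
  have h2 := List.all_eq_true.1 h1 _ (C.AL h a.2 ha.symm.dvd)
  rw [← T.ord, ha] at h2
  simp at h2

theorem Cx.r4 (C : Cx T R ν A Γ S) (h : Ok D (Nat.card A) x) : r4 D ν S (Nat.card A) x ≠ true := by
  intro h1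
  have := Fact.mk h.hp
  simp only [Sp2.r4, List.any_eq_true, Bool.and_eq_true, beq_iff_eq, List.all_eq_true, bne_iff_ne, Nat.blt_eq,
    List.mem_range] at h1
  obtain ⟨i, h2, ⟨⟨h3, h4⟩, h5⟩, h6⟩ := h1
  rw [← C.hy.mass.2 i h2] at h3
  obtain ⟨⟨g, rfl⟩⟩ := (Nat.card_pos_iff.1 h3).1
  obtain ⟨P⟩ : Nonempty (Sylow x.p A) := inferInstance
  obtain ⟨u, h7, h8⟩ := h.hN
  obtain ⟨a, h9, e⟩ := h.hq
  have h10 := Nat.dvd_of_mod_eq_zero h4
  rw [← T.ord] at h10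
  obtain ⟨t, ht⟩ := pow_into P (C.hy.mass.1.trans h7) h8 (d := x.p ^ x.F / x.q)
    (by rw [h.syl P]; exact Nat.mul_div_cancel' (e ▸ pow_dvd_pow _ h9)) h10
  rw [← T.pow] at h5 h6
  rw [← T.ord] at h5
  obtain ⟨j, -, hj⟩ := (Nat.dvd_prime_pow h.hp).1 ((orderOf_pow_dvd (x.p ^ x.F / x.q)).trans h10)
  exact h6 _ (C.AL h ht (by
    rw [ord_conj, hj]
    exact dvd_pow_self _ fun k => h5 (by rw [hj, k, pow_zero]))) (T.conj _ _)

theorem Cx.normal (C : Cx T R ν A Γ S) (h : Ok D (Nat.card A) x) [Fact x.p.Prime] (P : Sylow x.p A)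
    (h1 : x.k * x.m + 1 = x.q) : (P : Subgroup A).Normal :=
  normal_of_np P (by rw [h.np C.ep, h1, h.syl P])

theorem Cx.r6 (C : Cx T R ν A Γ S) (h : Ok D (Nat.card A) x) (h0 : x.q ≠ 1) : r6 x ≠ true := by
  intro h1
  have := Fact.mk h.hp
  obtain ⟨P⟩ : Nonempty (Sylow x.p A) := inferInstance
  simp only [Sp2.r6, Bool.or_eq_true, Bool.and_eq_true, beq_iff_eq, bne_iff_ne, Nat.blt_eq] at h1
  rcases h1 with h1 | ⟨h1, h2⟩
  · have h2 := card_le_np P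
    rw [h.np C.ep, h.syl P] at h2
    omega
  · have := C.normal h P h1
    exact h2 (h.full C.hy.mass (not_dvd_of_norm P (norm_of_normal C.mi P (h.dvd h0))))

theorem Ok.ti (h : Ok D (Nat.card A) x) (hE : Ep A) (h0 : x.q ≠ 1) [Fact x.p.Prime] (P : Sylow x.p A)
    (hP : IsMulCommutative P) : x.k ∣ x.q - 1 ∧ (x.q - 1) / x.k ∣ x.m ∧
      Nat.card (normalizer (P : Set A)) = x.q * ((x.q - 1) / x.k) := by
  have h1 := hE.np_ti P hP
  obtain ⟨e, he⟩ : Nat.card P ∣ Nat.card (normalizer (P : Set A)) := card_dvd_of_le le_normalizer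
  have h2 := (normalizer (P : Set A)).card_mul_index
  have h3 : 0 < x.q := h.syl P ▸ Nat.card_pos
  rw [h.syl P] at he h1
  rw [he, h.hn, mul_assoc] at h2
  have h4 := Nat.eq_of_mul_eq_mul_left h3 h2
  rw [h.np hE, ← h4, ← mul_assoc, mul_comm] at h1
  have h5 := Nat.eq_of_mul_eq_mul_left (Nat.pos_of_ne_zero index_ne_zero_of_finite) h1
  have h6 : 0 < x.k := Nat.pos_of_mul_pos_right (h5 ▸ (by omega : 0 < x.q - 1))
  rw [← h5, Nat.mul_div_cancel_left _ h6]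
  exact ⟨dvd_mul_right _ _, Dvd.intro _ h4, he⟩

theorem Cx.r7 (C : Cx T R ν A Γ S) (hL : ∀ y ∈ L, Ok D (Nat.card A) y) (h : Ok D (Nat.card A) x) (h0 : x.q ≠ 1) :
    r7 D ν S (Nat.card A) L x ≠ true := by
  intro h1
  have := Fact.mk h.hp
  obtain ⟨P⟩ : Nonempty (Sylow x.p A) := inferInstance
  simp only [Sp2.r7, Bool.or_eq_true, Bool.and_eq_true, beq_iff_eq, bne_iff_ne, List.any_eq_true] at h1
  obtain ⟨h2, h3, h4⟩ := h.ti C.ep h0 P (C.ab h P h1.1)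
  rcases h1.2 with (h5 | h5) | ⟨⟨h5, h6⟩, y, h7, ⟨h8, h9⟩, h10⟩
  · exact h5 (Nat.mod_eq_zero_of_dvd h2)
  · exact h5 (Nat.mod_eq_zero_of_dvd h3)
  · have : ((P : Subgroup A).subgroupOf (normalizer (P : Set A))).Normal := normal_in_normalizer
    refine ((C.ep.sub (normalizer (P : Set A))).odd_prime (Q := (P : Subgroup A).subgroupOf _)
      (P.isPGroup'.comap_of_injective _ (subtype_injective _)) (fun e => P.ne_bot_of_dvd_card (h.dvd h0) ?_) h5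
      (h4 ▸ (Nat.dvd_of_mod_eq_zero h6).mul_left _) (hL y h7).hp
      (h4 ▸ (Nat.dvd_of_mod_eq_zero h10).mul_left _)).elim h8 h9
    exact (subgroupOf_eq_bot.1 e).eq_bot_of_le le_normalizer

theorem Cx.r10 (C : Cx T R ν A Γ S) (h : Ok D (Nat.card A) x) : r10 (Nat.card A) x ≠ true := by
  intro h1
  have := Fact.mk h.hp
  simp only [Sp2.r10, Bool.and_eq_true, beq_iff_eq, bne_iff_ne] at h1
  obtain ⟨a, -, e⟩ := h.hq
  exact not_pgroup C.hn C.mi h1.2 (IsPGroup.of_card (h1.1.trans e))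

theorem Cx.r11 (C : Cx T R ν A Γ S) (h : Ok D (Nat.card A) x) (h0 : x.q ≠ 1) : r11 D ν S (Nat.card A) x ≠ true := by
  intro h1
  have := Fact.mk h.hp
  obtain ⟨P⟩ : Nonempty (Sylow x.p A) := inferInstance
  simp only [Sp2.r11, Bool.or_eq_true, Bool.and_eq_true, beq_iff_eq, bne_iff_ne, List.all_eq_true,
    Bool.not_eq_true'] at h1
  obtain ⟨⟨h2, h3⟩, h4⟩ := h1
  have := C.normal h P h2
  have h5 : IsMulCommutative P := h3.elim (C.ab h P) fun h3 => C.ep.ab h3.1 (Nat.dvd_of_mod_eq_zero h3.2) P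
  obtain ⟨a, ha⟩ := exists_prime_orderOf_dvd_card' x.p (h.dvd h0)
  have h6 : orderOf (a : K) = x.p := by rw [orderOf_coe, ha]
  have h7 := ne_one_of h.hp h6.symm.dvd
  have h8 := card_fus C.mi P h5 ha (fun b => T.ty b = T.ty a) fun b hb =>
    ⟨by rw [← orderOf_coe, T.ord, hb, ← T.ord, h6], C.unif _ _ (h6 ▸ h.hp) hb.symm⟩
  have h9 : (P : Subgroup A).index = x.m := by
    have h10 := (P : Subgroup A).card_mul_index
    rw [h.hn, ← h.syl P] at h10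
    exact Nat.eq_of_mul_eq_mul_left Nat.card_pos h10
  rcases h4 _ (C.mem a.2 h7) with h10 | h10
  · exact h10 (by rw [← T.ord, h6])
  · rw [C.al a.2 h7 h.hn (h9 ▸ h8)] at h10
    cases h10

theorem Cx.r12 (C : Cx T R ν A Γ S) (h : Ok D (Nat.card A) x) : r12 x ≠ true := by
  intro h1
  simp only [Sp2.r12, Bool.and_eq_true, beq_iff_eq, bne_iff_ne, Nat.blt_eq] at h1
  obtain ⟨⟨⟨h2, h3⟩, h4⟩, h5⟩ := h1
  obtain ⟨a, -, e⟩ := h.hq
  have h6 := sims_mi C.hn C.out C.mi (a := a) (by rw [h.hn, e, h2, h3])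
    (by_contra fun k => h4 (h.full C.hy.mass (h2 ▸ k)))
  rw [e, h2] at h5
  exact absurd (Nat.pow_le_pow_right two_pos h6) (by omega)

theorem Cx.loc (C : Cx T R ν A Γ S) (hL : ∀ y ∈ L, Ok D (Nat.card A) y) (h : Ok D (Nat.card A) x)
    (h0 : pCore x.p A ≠ ⊥) : loc D ν S (Nat.card A) L x ≠ true := by
  intro h1
  have := Fact.mk h.hp
  have := Lib.Cores.pCore_characteristic (G := A) x.p
  have hQ := Lib.Cores.pCore_isPGroup (G := A) x.p
  obtain ⟨P, hP⟩ := hQ.exists_le_sylow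
  obtain ⟨j, hj⟩ := IsPGroup.iff_card.1 hQ
  have h2 : x.p ^ j ∣ x.q := hj ▸ h.syl P ▸ card_dvd_of_le hP
  obtain ⟨j, rfl⟩ := Nat.exists_eq_succ_of_ne_zero fun e : j = 0 => h0 (card_eq_one.1 (by rw [hj, e, pow_zero]))
  have h3 : x.q ≠ 1 := fun e => h.hp.one_lt.ne' (Nat.dvd_one.1 ((dvd_pow_self _ j.succ_ne_zero).trans (e ▸ h2)))
  simp only [Sp2.loc, Bool.or_eq_true, Bool.and_eq_true, beq_iff_eq, bne_iff_ne, List.all_eq_true, List.any_eq_true,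
    List.mem_range, Nat.ble_eq] at h1
  rcases h1 with (((h1 | h1) | ⟨y, h4, ⟨⟨h5, h6⟩, h7⟩, h8⟩) | ⟨⟨h4, h5⟩, h6⟩) | ⟨⟨h4, h5⟩, h6⟩
  · exact h3 h1
  · obtain ⟨a, h4, e⟩ := h.hq
    rcases h1 j (((Nat.pow_dvd_pow_iff_le_right h.hp.one_lt).1 (e ▸ h2)).trans h4) with (h5 | h5) | ⟨⟨⟨h5, h6⟩, h7⟩, h8⟩
    · exact h5 (Nat.mod_eq_zero_of_dvd h2)
    · exact h5 (Nat.mod_eq_zero_of_dvd (hj ▸ C.ep.dvd_loc hQ (h.hn ▸ dvd_mul_left _ _) h.hm))
    · obtain ⟨u, h9, h10⟩ := h.hN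
      rw [h5] at h9 h10
      obtain ⟨g, hg⟩ := four C.mi C.ep (by rw [← h5, hj, h5, h6]; rfl) (C.hy.mass.1.trans h9) h10 h7
      exact h8 _ (T.lt g) (T.ord g ▸ hg)
  · have hy := hL y h4
    have := Fact.mk hy.hp
    obtain ⟨Y⟩ : Nonempty (Sylow y.p A) := inferInstance
    obtain ⟨a, ha⟩ := C.ep.cyc hQ h0 h6 h5 Y
    rw [hy.syl Y, ← orderOf_coe] at ha
    obtain ⟨b, -, e⟩ := hy.hq
    exact h8 _ (C.AL hy a.2 (by
      rw [ha, e]
      exact dvd_pow_self _ fun k => h7 (by rw [e, k, pow_zero]))) (T.ord _ ▸ ha)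
  · have := C.ep.normal hQ h0 h4 (Nat.dvd_of_mod_eq_zero h5) P
    exact h6 (by rw [← h.np C.ep, np_of_normal C.ep P, h.syl P])
  · exact h6 (h.full C.hy.mass (h4 ▸ two_free C.mi C.ep (h4 ▸ h0) (h4 ▸ h.dvd h3)
      fun k => h5 (Nat.mod_eq_zero_of_dvd k)))

end Cfsg.Agent.N2.Sp2
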