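import Cfsg.Agent.N2.Sp2.Rows
import Cfsg.Agent.N2.SpK.Tits

/-!
# N2 (S3519), the row of the Tits group (helper44)
-/

set_option autoImplicit false

namespace Cfsg.Agent.N2.Sp2

open Cfsg Cfsg.Agent.FP3 Cfsg.Agent.N2.SpK

theorem row_Tits {K : Type} [Group K] [Finite K] [IsSimpleGroup K] (hn : ¬ IsMulCommutative K) (h : Lie.IsoTits K) :
    ASRow K :=
  row_Tits_of hn h (inK_tits h) (by decide +kernel)

end Cfsg.Agent.N2.Sp2
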